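import Mathlib
import Cfsg.Agent.Lib.Helper6.SzCh.Defs
import Cfsg.Agent.Lib.Helper78.CharOrtho
import Cfsg.Agent.Lib.Helper78.CharMore

/-!
# Project SZCOV (helper41, S2457): the character table of `Sz(q)` by type of element

`SzTable D` records as much of the character table of a group `G` with Suzuki data `D : SzData G` as the
covering theorem (every `g ≠ 1` is a product of two conjugates of any `x` of order `> 2`) needs: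
the irreducible characters are `1`, `St`, `W₁`, `W₂` and three families `L`, `Y₁`, `Y₂`; the values on
`Z ∖ 1`, `Q ∖ Z`, `K ∖ 1`, `A₁ ∖ 1`, `A₂ ∖ 1` are listed except for `L` on `K` and `Y_i` on `A_i`.
-/

set_option autoImplicit false

namespace Cfsg.Agent.Lib.Helper41.SzCov

open Cfsg Cfsg.Agent.Lib.Helper6.SzCh Cfsg.Agent.Lib.Helper78
open scoped ComplexConjugate Classical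

universe u

variable {G : Type u} [Group G]

/-- the trivial character as an element of `IrrCharacter G` -/
noncomputable def trivIrr (G : Type u) [Group G] [Fintype G] : IrrCharacter G :=
  ⟨fun _ => 1, isIrrCharacter_one⟩

/-- the part of the character table of `Sz(q)` that the covering theorem uses -/
structure SzTable [Fintype G] (D : SzData G) where
  St : IrrCharacter G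
  W₁ : IrrCharacter G
  W₂ : IrrCharacter G
  L : Finset (IrrCharacter G)
  Y₁ : Finset (IrrCharacter G)
  Y₂ : Finset (IrrCharacter G)
  /-- `Irr(G) = {1, St, W₁, W₂} ⊔ L ⊔ Y₁ ⊔ Y₂` -/
  sum_eq : ∀ F : IrrCharacter G → ℂ, ∑ χ : IrrCharacter G, F χ =
    F (trivIrr G) + F St + F W₁ + F W₂ + ∑ χ ∈ L, F χ + ∑ χ ∈ Y₁, F χ + ∑ χ ∈ Y₂, F χ
  card_L : L.card * 2 + 2 = D.q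
  card_Y₁ : Y₁.card * 4 = D.q + D.r
  card_Y₂ : Y₂.card * 4 + D.r = D.q
  St_one : (St : G → ℂ) 1 = (D.q : ℂ) ^ 2
  St_Q : ∀ u ∈ D.Q, u ≠ 1 → (St : G → ℂ) u = 0
  St_K : ∀ k ∈ D.K, k ≠ 1 → (St : G → ℂ) k = 1
  St_A₁ : ∀ a ∈ D.A₁, a ≠ 1 → (St : G → ℂ) a = -1
  St_A₂ : ∀ a ∈ D.A₂, a ≠ 1 → (St : G → ℂ) a = -1
  L_one : ∀ χ ∈ L, (χ : G → ℂ) 1 = (D.q : ℂ) ^ 2 + 1
  L_Q : ∀ χ ∈ L, ∀ u ∈ D.Q, u ≠ 1 → (χ : G → ℂ) u = 1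
  L_A₁ : ∀ χ ∈ L, ∀ a ∈ D.A₁, a ≠ 1 → (χ : G → ℂ) a = 0
  L_A₂ : ∀ χ ∈ L, ∀ a ∈ D.A₂, a ≠ 1 → (χ : G → ℂ) a = 0
  Y₁_one : ∀ χ ∈ Y₁, (χ : G → ℂ) 1 = ((D.q : ℂ) - 1) * ((D.q : ℂ) - (D.r : ℂ) + 1)
  Y₁_Z : ∀ χ ∈ Y₁, ∀ t ∈ D.Z, t ≠ 1 → (χ : G → ℂ) t = (D.r : ℂ) - 1
  Y₁_QZ : ∀ χ ∈ Y₁, ∀ x ∈ D.Q, x ∉ D.Z → (χ : G → ℂ) x = -1
  Y₁_K : ∀ χ ∈ Y₁, ∀ k ∈ D.K, k ≠ 1 → (χ : G → ℂ) k = 0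
  Y₁_A₂ : ∀ χ ∈ Y₁, ∀ a ∈ D.A₂, a ≠ 1 → (χ : G → ℂ) a = 0
  Y₂_one : ∀ χ ∈ Y₂, (χ : G → ℂ) 1 = ((D.q : ℂ) - 1) * ((D.q : ℂ) + (D.r : ℂ) + 1)
  Y₂_Z : ∀ χ ∈ Y₂, ∀ t ∈ D.Z, t ≠ 1 → (χ : G → ℂ) t = -(D.r : ℂ) - 1
  Y₂_QZ : ∀ χ ∈ Y₂, ∀ x ∈ D.Q, x ∉ D.Z → (χ : G → ℂ) x = -1
  Y₂_K : ∀ χ ∈ Y₂, ∀ k ∈ D.K, k ≠ 1 → (χ : G → ℂ) k = 0
  Y₂_A₁ : ∀ χ ∈ Y₂, ∀ a ∈ D.A₁, a ≠ 1 → (χ : G → ℂ) a = 0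
  W₁_one : (W₁ : G → ℂ) 1 = (D.h : ℂ) * ((D.q : ℂ) - 1)
  W₂_one : (W₂ : G → ℂ) 1 = (D.h : ℂ) * ((D.q : ℂ) - 1)
  W₁_Z : ∀ t ∈ D.Z, t ≠ 1 → (W₁ : G → ℂ) t = -(D.h : ℂ)
  W₂_Z : ∀ t ∈ D.Z, t ≠ 1 → (W₂ : G → ℂ) t = -(D.h : ℂ)
  W₁_QZ : ∀ x ∈ D.Q, x ∉ D.Z → (W₁ : G → ℂ) x ^ 2 = -((D.h : ℂ) ^ 2)
  W₂_QZ : ∀ x ∈ D.Q, x ∉ D.Z → (W₂ : G → ℂ) x = -(W₁ : G → ℂ) x
  W₁_K : ∀ k ∈ D.K, k ≠ 1 → (W₁ : G → ℂ) k = 0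
  W₂_K : ∀ k ∈ D.K, k ≠ 1 → (W₂ : G → ℂ) k = 0
  W₁_A₁ : ∀ a ∈ D.A₁, a ≠ 1 → (W₁ : G → ℂ) a = 1
  W₂_A₁ : ∀ a ∈ D.A₁, a ≠ 1 → (W₂ : G → ℂ) a = 1
  W₁_A₂ : ∀ a ∈ D.A₂, a ≠ 1 → (W₁ : G → ℂ) a = -1
  W₂_A₂ : ∀ a ∈ D.A₂, a ≠ 1 → (W₂ : G → ℂ) a = -1

end Cfsg.Agent.Lib.Helper41.SzCov
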