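import Mathlib
import Cfsg.Agent.Lib.Helper6.SzCh.Asm
import Cfsg.Agent.Lib.Helper41.SzCov.Defs

/-!
# SZCOV-[TORUS-VAL]: characters outside the exceptional family of a T.I. torus `A` are constant small
integers on `A ∖ 1`, congruent to the degree modulo `|A|`
-/

set_option autoImplicit false

namespace Cfsg.Agent.Lib.Helper41.SzCov

open Cfsg Cfsg.Agent.Lib.Helper6.SzCh Cfsg.Agent.Lib.Helper78
open scoped ComplexConjugate Classical

universe u

variable {G : Type u} [Group G]

/-- if a character `χ` is constant `= v ∈ ℤ` on `A ∖ 1` then `|A|` divides `χ(1) - v` -/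
theorem dvd_degree_sub_of_const [Fintype G] (A : Subgroup G) {χ : G → ℂ} (hχ : IsCharacter G χ) (v : ℤ)
    (hv : ∀ y ∈ A, y ≠ 1 → χ y = (v : ℂ)) : (Nat.card A : ℤ) ∣ (charDegree χ : ℤ) - v := by
  have hres := Cfsg.Agent.Lib.Helper80.isCharacter_restrict A hχ
  obtain ⟨n, hn⟩ := IsCharacter.exists_nat_classInner hres ⟨fun _ => 1, isIrrCharacter_one⟩
  unfold classInner at hn
  have hApos : (Nat.card A : ℂ) ≠ 0 := by
    have : 0 < Nat.card A := Nat.card_pos
    exact_mod_cast this.ne'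
  have hsum : ∑ a : ↥A, χ (a : G) = (Nat.card A : ℂ) * n := by
    have h1 : ∑ a : ↥A, χ (a : G) * conj ((1 : ℂ)) = ∑ a : ↥A, χ (a : G) := by
      apply Finset.sum_congr rfl
      intro a _
      simp
    rw [← h1]
    field_simp at hn
    linear_combination hn
  have hsplit := Finset.add_sum_erase Finset.univ (fun a : ↥A => χ (a : G)) (Finset.mem_univ (1 : ↥A))
  have hrest : ∑ a ∈ (Finset.univ : Finset ↥A).erase 1, χ (a : G) = ((Nat.card A : ℂ) - 1) * (v : ℂ) := by
    have : ∀ a ∈ (Finset.univ : Finset ↥A).erase 1, χ (a : G) = (v : ℂ) := by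
      intro a ha
      have hne : a ≠ 1 := (Finset.mem_erase.mp ha).1
      exact hv a a.2 (fun h => hne (Subtype.ext h))
    rw [Finset.sum_congr rfl this, Finset.sum_const, Finset.card_erase_of_mem (Finset.mem_univ _),
      Finset.card_univ, ← Nat.card_eq_fintype_card, nsmul_eq_mul]
    have : 1 ≤ Nat.card A := Nat.card_pos
    rw [Nat.cast_sub this]
    simp
  have hone : χ ((1 : ↥A) : G) = (charDegree χ : ℂ) := by
    rw [Subgroup.coe_one]
    exact IsCharacter.apply_one_eq_charDegree hχ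
  rw [hrest, hone, hsum] at hsplit
  have key : ((charDegree χ : ℤ) - v : ℤ) = (Nat.card A : ℤ) * ((n : ℤ) - v) := by
    have : (((charDegree χ : ℤ) - v : ℤ) : ℂ) = (((Nat.card A : ℤ) * ((n : ℤ) - v) : ℤ) : ℂ) := by
      push_cast
      linear_combination hsplit
    exact_mod_cast this
  exact ⟨(n : ℤ) - v, key⟩

/-- SZCOV-[TORUS-VAL] (from `exc_TI`) -/
theorem torus_val [Fintype G] (A : Subgroup G)
    (hcent : ∀ a ∈ A, a ≠ 1 → Subgroup.centralizer ({a} : Set G) = A)
    (hnorm : Nat.card ↥(Subgroup.normalizer (A : Set G)) = 4 * Nat.card A)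
    (hbig : 5 < Nat.card A) :
    ∃ E : Finset (IrrCharacter G), E.card * 4 + 1 = Nat.card A ∧
      ∀ χ : IrrCharacter G, χ ∉ E → ∃ v : ℤ, (∀ y ∈ A, y ≠ 1 → (χ : G → ℂ) y = (v : ℂ)) ∧
        |v| ≤ 2 ∧ (Nat.card A : ℤ) ∣ (charDegree (χ : G → ℂ) : ℤ) - v := by
  obtain ⟨δ, d, Y, v, -, hcard, hne1, hconst, -, hsum, -⟩ :=
    Cfsg.Agent.Lib.Helper73.SzCh.exc_TI A 4 hcent hnorm (by omega)
  refine ⟨Y, hcard, ?_⟩
  intro χ hχ
  refine ⟨v χ, hconst χ hχ, ?_, ?_⟩
  · -- the bound
    have h0Y : trivIrr G ∉ Y := fun h => hne1 _ h rfl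
    -- some non-identity element of `A`
    obtain ⟨y, hyA, hy1⟩ : ∃ y ∈ A, y ≠ 1 := by
      by_contra hcon
      push Not at hcon
      have : A = ⊥ := by
        rw [Subgroup.eq_bot_iff_forall]
        exact hcon
      rw [this, Subgroup.card_bot] at hbig
      omega
    have hv0 : v (trivIrr G) = 1 := by
      have h := hconst _ h0Y y hyA hy1
      have h' : (1 : ℂ) = (v (trivIrr G) : ℂ) := h
      exact_mod_cast h'.symm
    by_cases hχ0 : χ = trivIrr G
    · rw [hχ0, hv0]; norm_num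
    · have hYc : (1 : ℤ) ≤ (Y.card : ℤ) := by
        have : 1 ≤ Y.card := by omega
        exact_mod_cast this
      have hmem0 : trivIrr G ∈ Finset.univ.filter (fun χ : IrrCharacter G => χ ∉ Y) := by
        simp [h0Y]
      have hmemχ : χ ∈ (Finset.univ.filter (fun χ : IrrCharacter G => χ ∉ Y)).erase (trivIrr G) := by
        simp [hχ, hχ0]
      have hsplit := Finset.add_sum_erase (Finset.univ.filter (fun χ : IrrCharacter G => χ ∉ Y))
        (fun χ => v χ ^ 2) hmem0
      have hle : v χ ^ 2 ≤ ∑ χ' ∈ (Finset.univ.filter (fun χ : IrrCharacter G => χ ∉ Y)).erase (trivIrr G),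
          v χ' ^ 2 :=
        Finset.single_le_sum (f := fun χ' => v χ' ^ 2) (fun i _ => sq_nonneg _) hmemχ
      simp only [hv0] at hsplit
      have h1 : 0 ≤ (d - δ) ^ 2 := sq_nonneg _
      have h2 : 0 ≤ ((Y.card : ℤ) - 1) * d ^ 2 := mul_nonneg (by linarith) (sq_nonneg _)
      have h3 : v χ ^ 2 ≤ 4 := by
        push_cast at hsum
        linarith
      exact abs_le.mpr ⟨by nlinarith, by nlinarith⟩
  · exact dvd_degree_sub_of_const A (IsIrrCharacter.isCharacter χ.2) (v χ) (hconst χ hχ)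

end Cfsg.Agent.Lib.Helper41.SzCov
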