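import Mathlib
import Cfsg.Agent.Lib.Helper41.SzCov.Defs
import Cfsg.Agent.Lib.Helper74.InvolCols

/-!
# SZCOV core: structure constants and the expansion of sums over `Irr(G)` along the table
-/

set_option autoImplicit false

namespace Cfsg.Agent.Lib.Helper41.SzCov

open Cfsg Cfsg.Agent.Lib.Helper6.SzCh Cfsg.Agent.Lib.Helper78 Cfsg.Agent.Lib.Helper74
open scoped ComplexConjugate Classical

universe u

variable {G : Type u} [Group G]

/-- the normalized structure constant `∑_χ χ(x)² conj χ(g) / χ(1)` -/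
noncomputable def nSum [Fintype G] (x g : G) : ℂ :=
  ∑ χ : IrrCharacter G, (χ : G → ℂ) x ^ 2 * conj ((χ : G → ℂ) g) / (χ : G → ℂ) 1

/-- if the structure constant does not vanish, `g` is a product of two conjugates of `x` -/
theorem exists_conj_mul_conj_of_nSum_ne_zero [Fintype G] {x g : G} (h : nSum x g ≠ 0) :
    ∃ u v : G, g = (u * x * u⁻¹) * (v * x * v⁻¹) := by
  by_contra hne
  push Not at hne
  apply h
  have hzero : conjProdCount x x g = 0 := by
    unfold conjProdCount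
    apply Finset.sum_eq_zero
    intro a _
    apply Finset.sum_eq_zero
    intro b _
    rw [if_neg]
    intro hab
    exact hne a b hab.symm
  have hexp := congrFun (classFunction_eq_sum_irr (isClassFunction_conjProdCount x x)) g
  rw [hzero] at hexp
  simp only [Finset.sum_apply, Pi.smul_apply, smul_eq_mul, classInner_conjProdCount_irr] at hexp
  have hG : (Nat.card G : ℂ) ≠ 0 := by exact_mod_cast (Nat.card_pos (α := G)).ne'
  -- conjugate the relation
  have h2 : conj (∑ χ : IrrCharacter G, (Nat.card G : ℂ) *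
      conj ((χ : G → ℂ) x * (χ : G → ℂ) x / (χ : G → ℂ) 1) * (χ : G → ℂ) g) = 0 := by
    rw [← hexp]; simp
  rw [map_sum] at h2
  have h3 : ∑ χ : IrrCharacter G, conj ((Nat.card G : ℂ) *
      conj ((χ : G → ℂ) x * (χ : G → ℂ) x / (χ : G → ℂ) 1) * (χ : G → ℂ) g) =
      (Nat.card G : ℂ) * nSum x g := by
    unfold nSum
    rw [Finset.mul_sum]
    apply Finset.sum_congr rfl
    intro χ _
    simp only [map_mul, Complex.conj_natCast, Complex.conj_conj, map_div₀]
    ring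
  rw [h3] at h2
  exact (mul_eq_zero.mp h2).resolve_left hG


/-! ### expansions along the table -/

section Expand

variable [Fintype G] {D : SzData G} (T : SzTable D)

/-- family sums of the structure constant -/
noncomputable def famSum (S : Finset (IrrCharacter G)) (x g : G) : ℂ :=
  ∑ χ ∈ S, (χ : G → ℂ) x ^ 2 * conj ((χ : G → ℂ) g)

/-- family sums of the orthogonality relations -/
noncomputable def famOrth (S : Finset (IrrCharacter G)) (x g : G) : ℂ :=
  ∑ χ ∈ S, (χ : G → ℂ) x * conj ((χ : G → ℂ) g)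

theorem trivIrr_apply (g : G) : ((trivIrr G : IrrCharacter G) : G → ℂ) g = 1 := rfl

theorem nSum_expand (x g : G) :
    nSum x g = 1 + (T.St : G → ℂ) x ^ 2 * conj ((T.St : G → ℂ) g) / (D.q : ℂ) ^ 2 +
      ((T.W₁ : G → ℂ) x ^ 2 * conj ((T.W₁ : G → ℂ) g) + (T.W₂ : G → ℂ) x ^ 2 * conj ((T.W₂ : G → ℂ) g)) /
        ((D.h : ℂ) * ((D.q : ℂ) - 1)) +
      famSum T.L x g / ((D.q : ℂ) ^ 2 + 1) +
      famSum T.Y₁ x g / (((D.q : ℂ) - 1) * ((D.q : ℂ) - (D.r : ℂ) + 1)) +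
      famSum T.Y₂ x g / (((D.q : ℂ) - 1) * ((D.q : ℂ) + (D.r : ℂ) + 1)) := by
  unfold nSum
  rw [T.sum_eq]
  simp only [trivIrr_apply, T.St_one, T.W₁_one, T.W₂_one]
  have hL : ∑ χ ∈ T.L, (χ : G → ℂ) x ^ 2 * conj ((χ : G → ℂ) g) / (χ : G → ℂ) 1 =
      famSum T.L x g / ((D.q : ℂ) ^ 2 + 1) := by
    unfold famSum
    rw [Finset.sum_div]
    exact Finset.sum_congr rfl (fun χ hχ => by rw [T.L_one χ hχ])
  have hY₁ : ∑ χ ∈ T.Y₁, (χ : G → ℂ) x ^ 2 * conj ((χ : G → ℂ) g) / (χ : G → ℂ) 1 =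
      famSum T.Y₁ x g / (((D.q : ℂ) - 1) * ((D.q : ℂ) - (D.r : ℂ) + 1)) := by
    unfold famSum
    rw [Finset.sum_div]
    exact Finset.sum_congr rfl (fun χ hχ => by rw [T.Y₁_one χ hχ])
  have hY₂ : ∑ χ ∈ T.Y₂, (χ : G → ℂ) x ^ 2 * conj ((χ : G → ℂ) g) / (χ : G → ℂ) 1 =
      famSum T.Y₂ x g / (((D.q : ℂ) - 1) * ((D.q : ℂ) + (D.r : ℂ) + 1)) := by
    unfold famSum
    rw [Finset.sum_div]
    exact Finset.sum_congr rfl (fun χ hχ => by rw [T.Y₂_one χ hχ])
  rw [hL, hY₁, hY₂]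
  simp only [one_pow, map_one, mul_one, div_one]
  ring

/-- the orthogonality relations along the table -/
theorem orth_expand (x g : G) :
    (Nat.card (Subgroup.centralizer ({g} : Set G)) : ℂ) * classIndicator g x =
      1 + (T.St : G → ℂ) x * conj ((T.St : G → ℂ) g) +
      (T.W₁ : G → ℂ) x * conj ((T.W₁ : G → ℂ) g) + (T.W₂ : G → ℂ) x * conj ((T.W₂ : G → ℂ) g) +
      famOrth T.L x g + famOrth T.Y₁ x g + famOrth T.Y₂ x g := by
  rw [← sum_irr_mul_conj_eq, T.sum_eq]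
  simp only [trivIrr_apply, map_one, mul_one]
  rfl


theorem orth_self (g : G) :
    (Nat.card (Subgroup.centralizer ({g} : Set G)) : ℂ) =
      1 + (T.St : G → ℂ) g * conj ((T.St : G → ℂ) g) +
      (T.W₁ : G → ℂ) g * conj ((T.W₁ : G → ℂ) g) + (T.W₂ : G → ℂ) g * conj ((T.W₂ : G → ℂ) g) +
      famOrth T.L g g + famOrth T.Y₁ g g + famOrth T.Y₂ g g := by
  rw [← orth_expand T g g]
  unfold classIndicator
  rw [if_pos (IsConj.refl g), mul_one]

theorem orth_one {g : G} (hg : g ≠ 1) :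
    0 = 1 + (T.St : G → ℂ) 1 * conj ((T.St : G → ℂ) g) +
      (T.W₁ : G → ℂ) 1 * conj ((T.W₁ : G → ℂ) g) + (T.W₂ : G → ℂ) 1 * conj ((T.W₂ : G → ℂ) g) +
      famOrth T.L 1 g + famOrth T.Y₁ 1 g + famOrth T.Y₂ 1 g := by
  rw [← orth_expand T 1 g]
  unfold classIndicator
  rw [if_neg, mul_zero]
  intro h
  exact hg (isConj_one_left.mp h)

end Expand

/-! ### the parameters -/

section Params

variable (D : SzData G)

theorem two_le_h : 2 ≤ D.h := by
  unfold SzData.h hOf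
  calc 2 = 2 ^ 1 := by norm_num
    _ ≤ 2 ^ D.m := Nat.pow_le_pow_right (by norm_num) D.hm

theorem q_eq : D.q = 2 * D.h ^ 2 := by
  unfold SzData.q SzData.h qOf hOf
  rw [pow_succ, ← pow_mul, mul_comm D.m 2, mul_comm]

theorem r_eq : D.r = 2 * D.h := by
  unfold SzData.r SzData.h rOf hOf
  rw [pow_succ, mul_comm]

theorem card_A₂_eq : Nat.card ↥D.A₂ + D.r = D.q + 1 := D.card_A₂

theorem card_A₁_eq : Nat.card ↥D.A₁ = D.q + D.r + 1 := D.card_A₁

end Params

section Cent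

variable (D : SzData G)

theorem not_mem_cent_of_not_mem_Z {x : G} (hx : x ∈ D.Q) (hxZ : x ∉ D.Z) :
    x ∉ Subgroup.centralizer (D.Q : Set G) := fun h => hxZ ⟨hx, h⟩

theorem card_cent_QZ {x : G} (hx : x ∈ D.Q) (hxZ : x ∉ D.Z) :
    Nat.card ↥(Subgroup.centralizer ({x} : Set G)) = 2 * D.q :=
  D.card_cent x hx (not_mem_cent_of_not_mem_Z D hx hxZ)

theorem card_cent_K {k : G} (hk : k ∈ D.K) (hk1 : k ≠ 1) :
    Nat.card ↥(Subgroup.centralizer ({k} : Set G)) = D.q - 1 := by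
  rw [D.cent_K k hk hk1]; exact D.card_K

theorem card_cent_A₁ {a : G} (ha : a ∈ D.A₁) (ha1 : a ≠ 1) :
    Nat.card ↥(Subgroup.centralizer ({a} : Set G)) = D.q + D.r + 1 := by
  rw [D.cent_A₁ a ha ha1]; exact D.card_A₁

theorem card_cent_A₂ {a : G} (ha : a ∈ D.A₂) (ha1 : a ≠ 1) :
    Nat.card ↥(Subgroup.centralizer ({a} : Set G)) + D.r = D.q + 1 := by
  rw [D.cent_A₂ a ha ha1]; exact D.card_A₂

end Cent

end Cfsg.Agent.Lib.Helper41.SzCov
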