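import Mathlib
import Cfsg.Agent.Lib.Helper41.SzCov.Core

/-!
# SZCOV: general estimates and the case `x ∈ K ∖ 1`
-/

set_option autoImplicit false

namespace Cfsg.Agent.Lib.Helper41.SzCov

open Cfsg Cfsg.Agent.Lib.Helper6.SzCh Cfsg.Agent.Lib.Helper78
open scoped ComplexConjugate Classical

universe u

variable {G : Type u} [Group G]

/-! ### general lemmas -/

theorem ne_zero_of_real_add {c : ℝ} {E : ℂ} (h : ‖E‖ < c) : (c : ℂ) + E ≠ 0 := by
  intro h0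
  have hE : E = -(c : ℂ) := by linear_combination h0
  rw [hE, norm_neg, Complex.norm_real, Real.norm_eq_abs] at h
  exact absurd h (not_lt.mpr (le_abs_self c))

section Fam

/-- the mass of a family at `y` -/
noncomputable def mass (S : Finset (IrrCharacter G)) (y : G) : ℝ :=
  ∑ χ ∈ S, ‖(χ : G → ℂ) y‖ ^ 2

theorem famOrth_self (S : Finset (IrrCharacter G)) (y : G) :
    famOrth S y y = ((mass S y : ℝ) : ℂ) := by
  unfold famOrth mass
  push_cast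
  apply Finset.sum_congr rfl
  intro χ _
  rw [Complex.mul_conj, Complex.normSq_eq_norm_sq]
  push_cast
  rfl

theorem mass_nonneg (S : Finset (IrrCharacter G)) (y : G) : 0 ≤ mass S y :=
  Finset.sum_nonneg (fun _ _ => sq_nonneg _)

theorem norm_sq_le_mass {S : Finset (IrrCharacter G)} {χ : IrrCharacter G} (hχ : χ ∈ S) (y : G) :
    ‖(χ : G → ℂ) y‖ ^ 2 ≤ mass S y :=
  Finset.single_le_sum (f := fun χ : IrrCharacter G => ‖(χ : G → ℂ) y‖ ^ 2)
    (fun _ _ => sq_nonneg _) hχ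

/-- `‖∑ χ(x)² conj χ(g)‖ ≤ c · mass(x)` if `‖χ(g)‖ ≤ c` on the family -/
theorem norm_famSum_le (S : Finset (IrrCharacter G)) (x g : G) {c : ℝ}
    (hc : ∀ χ ∈ S, ‖(χ : G → ℂ) g‖ ≤ c) : ‖famSum S x g‖ ≤ c * mass S x := by
  unfold famSum mass
  rw [Finset.mul_sum]
  refine (norm_sum_le _ _).trans (Finset.sum_le_sum ?_)
  intro χ hχ
  rw [norm_mul, norm_pow, Complex.norm_conj, mul_comm]
  exact mul_le_mul_of_nonneg_right (hc χ hχ) (sq_nonneg _)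

/-- `‖χ(g)‖ ≤ M` if `mass ≤ M` and `1 ≤ M` -/
theorem norm_le_of_mass_le {S : Finset (IrrCharacter G)} {χ : IrrCharacter G} (hχ : χ ∈ S) (y : G)
    {M : ℝ} (hM : mass S y ≤ M) (h1 : 1 ≤ M) : ‖(χ : G → ℂ) y‖ ≤ M := by
  have h2 : ‖(χ : G → ℂ) y‖ ^ 2 ≤ M := (norm_sq_le_mass hχ y).trans hM
  by_contra hlt
  push Not at hlt
  have h0 : 0 ≤ ‖(χ : G → ℂ) y‖ := norm_nonneg _
  nlinarith

theorem famSum_eq_zero_of_left {S : Finset (IrrCharacter G)} {x : G} (g : G)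
    (h : ∀ χ ∈ S, (χ : G → ℂ) x = 0) : famSum S x g = 0 := by
  unfold famSum
  apply Finset.sum_eq_zero
  intro χ hχ
  rw [h χ hχ]; simp

theorem famSum_eq_zero_of_right {S : Finset (IrrCharacter G)} (x : G) {g : G}
    (h : ∀ χ ∈ S, (χ : G → ℂ) g = 0) : famSum S x g = 0 := by
  unfold famSum
  apply Finset.sum_eq_zero
  intro χ hχ
  rw [h χ hχ]; simp

theorem famOrth_eq_zero_of_right {S : Finset (IrrCharacter G)} (x : G) {g : G}
    (h : ∀ χ ∈ S, (χ : G → ℂ) g = 0) : famOrth S x g = 0 := by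
  unfold famOrth
  apply Finset.sum_eq_zero
  intro χ hχ
  rw [h χ hχ]; simp

theorem mass_eq_zero {S : Finset (IrrCharacter G)} {y : G}
    (h : ∀ χ ∈ S, (χ : G → ℂ) y = 0) : mass S y = 0 := by
  unfold mass
  apply Finset.sum_eq_zero
  intro χ hχ
  rw [h χ hχ]; simp

end Fam

/-! ### real parameters -/

section Real

variable (D : SzData G)

theorem hR_ge : (2 : ℝ) ≤ (D.h : ℝ) := by exact_mod_cast two_le_h D

theorem qR_eq : (D.q : ℝ) = 2 * (D.h : ℝ) ^ 2 := by exact_mod_cast q_eq D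

theorem rR_eq : (D.r : ℝ) = 2 * (D.h : ℝ) := by exact_mod_cast r_eq D

theorem qC_eq : (D.q : ℂ) = 2 * (D.h : ℂ) ^ 2 := by exact_mod_cast q_eq D

theorem rC_eq : (D.r : ℂ) = 2 * (D.h : ℂ) := by exact_mod_cast r_eq D

end Real


/-! ### the case `x ∈ K ∖ 1` -/

section CaseK

theorem two_le_q (D : SzData G) : 2 ≤ D.q := by
  have := two_le_h D
  rw [q_eq]
  nlinarith

theorem cast_q_sub_one (D : SzData G) : ((D.q - 1 : ℕ) : ℂ) = (D.q : ℂ) - 1 := by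
  have := two_le_q D
  rw [Nat.cast_sub (by omega)]; simp

variable [Fintype G] {D : SzData G} (T : SzTable D)
include T

theorem mass_L_K {k : G} (hk : k ∈ D.K) (hk1 : k ≠ 1) : mass T.L k = (D.q : ℝ) - 3 := by
  have h := orth_self T k
  rw [card_cent_K D hk hk1, T.St_K k hk hk1, T.W₁_K k hk hk1, T.W₂_K k hk hk1,
    famOrth_self, famOrth_self, famOrth_self, mass_eq_zero (fun χ hχ => T.Y₁_K χ hχ k hk hk1),
    mass_eq_zero (fun χ hχ => T.Y₂_K χ hχ k hk hk1), cast_q_sub_one] at h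
  have h' : ((mass T.L k : ℝ) : ℂ) = (((D.q : ℝ) - 3 : ℝ) : ℂ) := by
    push_cast
    simp only [map_one, map_zero, mul_one, mul_zero, Complex.ofReal_zero, add_zero] at h
    linear_combination -h
  exact_mod_cast h'

/-- `x ∈ K ∖ 1`, `g ∈ Q ∖ 1` -/
theorem nSum_K_Q {k u : G} (hk : k ∈ D.K) (hk1 : k ≠ 1) (hu : u ∈ D.Q) (hu1 : u ≠ 1) :
    nSum k u ≠ 0 := by
  have hexp := nSum_expand T k u
  rw [T.St_Q u hu hu1, T.W₁_K k hk hk1, T.W₂_K k hk hk1,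
    famSum_eq_zero_of_left u (fun χ hχ => T.Y₁_K χ hχ k hk hk1),
    famSum_eq_zero_of_left u (fun χ hχ => T.Y₂_K χ hχ k hk hk1)] at hexp
  have hE : nSum k u = ((1 : ℝ) : ℂ) + famSum T.L k u / ((D.q : ℂ) ^ 2 + 1) := by
    rw [hexp]; push_cast; simp
  rw [hE]
  apply ne_zero_of_real_add
  have hq : (2 : ℝ) ≤ (D.q : ℝ) := by exact_mod_cast two_le_q D
  have hb : ‖famSum T.L k u‖ ≤ 1 * mass T.L k := by
    apply norm_famSum_le
    intro χ hχ
    rw [T.L_Q χ hχ u hu hu1]; simp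
  rw [mass_L_K T hk hk1, one_mul] at hb
  have hden : ((D.q : ℂ) ^ 2 + 1) = (((D.q : ℝ) ^ 2 + 1 : ℝ) : ℂ) := by push_cast; ring
  rw [norm_div, hden, Complex.norm_real, Real.norm_eq_abs, abs_of_pos (by positivity),
    div_lt_one (by positivity)]
  nlinarith

/-- `x ∈ K ∖ 1`, `g ∈ A₁ ∖ 1` or `A₂ ∖ 1` (the value of `St` at `g` is `-1`, `L` vanishes) -/
theorem nSum_K_A {k a : G} (hk : k ∈ D.K) (hk1 : k ≠ 1) (hSt : (T.St : G → ℂ) a = -1)
    (hL : ∀ χ ∈ T.L, (χ : G → ℂ) a = 0) : nSum k a ≠ 0 := by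
  have hexp := nSum_expand T k a
  rw [hSt, T.St_K k hk hk1, T.W₁_K k hk hk1, T.W₂_K k hk hk1,
    famSum_eq_zero_of_left a (fun χ hχ => T.Y₁_K χ hχ k hk hk1),
    famSum_eq_zero_of_left a (fun χ hχ => T.Y₂_K χ hχ k hk hk1),
    famSum_eq_zero_of_right k hL] at hexp
  have hq : (2 : ℝ) ≤ (D.q : ℝ) := by exact_mod_cast two_le_q D
  have hE : nSum k a = ((1 - 1 / (D.q : ℝ) ^ 2 : ℝ) : ℂ) := by
    rw [hexp]; push_cast; simp; ring
  rw [hE, Complex.ofReal_ne_zero]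
  have : 1 / (D.q : ℝ) ^ 2 < 1 := by
    rw [div_lt_one (by positivity)]
    nlinarith
  linarith

/-- `x, g ∈ K ∖ 1` -/
theorem nSum_K_K {k k' : G} (hk : k ∈ D.K) (hk1 : k ≠ 1) (hk' : k' ∈ D.K) (hk'1 : k' ≠ 1) :
    nSum k k' ≠ 0 := by
  have hexp := nSum_expand T k k'
  rw [T.St_K k hk hk1, T.St_K k' hk' hk'1, T.W₁_K k hk hk1, T.W₂_K k hk hk1,
    famSum_eq_zero_of_left k' (fun χ hχ => T.Y₁_K χ hχ k hk hk1),
    famSum_eq_zero_of_left k' (fun χ hχ => T.Y₂_K χ hχ k hk hk1)] at hexp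
  have hq : (2 : ℝ) ≤ (D.q : ℝ) := by exact_mod_cast two_le_q D
  have hq8 : (8 : ℝ) ≤ (D.q : ℝ) := by
    have := hR_ge D
    rw [qR_eq]; nlinarith
  have hE : nSum k k' = ((1 + 1 / (D.q : ℝ) ^ 2 : ℝ) : ℂ) + famSum T.L k k' / ((D.q : ℂ) ^ 2 + 1) := by
    rw [hexp]; push_cast; simp
  rw [hE]
  apply ne_zero_of_real_add
  have hb : ‖famSum T.L k k'‖ ≤ ((D.q : ℝ) - 3) * mass T.L k := by
    apply norm_famSum_le
    intro χ hχ
    exact norm_le_of_mass_le hχ k' (le_of_eq (mass_L_K T hk' hk'1)) (by linarith)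
  rw [mass_L_K T hk hk1] at hb
  have hden : ((D.q : ℂ) ^ 2 + 1) = (((D.q : ℝ) ^ 2 + 1 : ℝ) : ℂ) := by push_cast; ring
  rw [norm_div, hden, Complex.norm_real, Real.norm_eq_abs, abs_of_pos (by positivity)]
  have h1 : ‖famSum T.L k k'‖ / ((D.q : ℝ) ^ 2 + 1) < 1 := by
    rw [div_lt_one (by positivity)]
    nlinarith
  have h2 : 0 < 1 / (D.q : ℝ) ^ 2 := by positivity
  linarith

end CaseK

end Cfsg.Agent.Lib.Helper41.SzCov
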