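import Mathlib
import Cfsg.Agent.Lib.Helper41.SzCov.CaseK

/-!
# SZCOV: the case `x ∈ Q ∖ Z` (elements of order 4)
-/

set_option autoImplicit false

namespace Cfsg.Agent.Lib.Helper41.SzCov

open Cfsg Cfsg.Agent.Lib.Helper6.SzCh Cfsg.Agent.Lib.Helper78
open scoped ComplexConjugate Classical

universe u

variable {G : Type u} [Group G]

section Fam2

/-- the sum of the conjugate values of a family -/
noncomputable def conjSum (S : Finset (IrrCharacter G)) (g : G) : ℂ :=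
  ∑ χ ∈ S, conj ((χ : G → ℂ) g)

theorem famSum_of_sq_one {S : Finset (IrrCharacter G)} {x : G}
    (hx : ∀ χ ∈ S, (χ : G → ℂ) x ^ 2 = 1) (g : G) : famSum S x g = conjSum S g := by
  unfold famSum conjSum
  exact Finset.sum_congr rfl (fun χ hχ => by rw [hx χ hχ, one_mul])

theorem famOrth_one_eq {S : Finset (IrrCharacter G)} {d : ℂ}
    (h1 : ∀ χ ∈ S, (χ : G → ℂ) 1 = d) (g : G) : famOrth S 1 g = d * conjSum S g := by
  unfold famOrth conjSum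
  rw [Finset.mul_sum]
  exact Finset.sum_congr rfl (fun χ hχ => by rw [h1 χ hχ])

theorem conjSum_const {S : Finset (IrrCharacter G)} {g : G} {v : ℂ}
    (hg : ∀ χ ∈ S, (χ : G → ℂ) g = v) : conjSum S g = (S.card : ℂ) * conj v := by
  unfold conjSum
  rw [Finset.sum_congr rfl (fun χ hχ => by rw [hg χ hχ]), Finset.sum_const, nsmul_eq_mul]

end Fam2

theorem qsq_add_one_ne (D : SzData G) : (D.q : ℂ) ^ 2 + 1 ≠ 0 := by
  have : ((D.q : ℂ) ^ 2 + 1) = ((D.q ^ 2 + 1 : ℕ) : ℂ) := by push_cast; ring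
  rw [this]
  exact Nat.cast_ne_zero.mpr (Nat.succ_ne_zero _)

section CaseRho

variable [Fintype G] {D : SzData G} (T : SzTable D)
include T

theorem L_sq_QZ {x : G} (hx : x ∈ D.Q) (hxZ : x ∉ D.Z) :
    ∀ χ ∈ T.L, (χ : G → ℂ) x ^ 2 = 1 := by
  intro χ hχ
  have hx1 : x ≠ 1 := fun h => hxZ (h ▸ D.Z.one_mem)
  rw [T.L_Q χ hχ x hx hx1]; norm_num

theorem Y₁_sq_QZ {x : G} (hx : x ∈ D.Q) (hxZ : x ∉ D.Z) :
    ∀ χ ∈ T.Y₁, (χ : G → ℂ) x ^ 2 = 1 := by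
  intro χ hχ
  rw [T.Y₁_QZ χ hχ x hx hxZ]; norm_num

theorem Y₂_sq_QZ {x : G} (hx : x ∈ D.Q) (hxZ : x ∉ D.Z) :
    ∀ χ ∈ T.Y₂, (χ : G → ℂ) x ^ 2 = 1 := by
  intro χ hχ
  rw [T.Y₂_QZ χ hχ x hx hxZ]; norm_num

theorem W₂_sq_QZ {x : G} (hx : x ∈ D.Q) (hxZ : x ∉ D.Z) :
    (T.W₂ : G → ℂ) x ^ 2 = -((D.h : ℂ) ^ 2) := by
  rw [T.W₂_QZ x hx hxZ, neg_sq, T.W₁_QZ x hx hxZ]

/-- the expansion of `nSum x g` for `x ∈ Q ∖ Z` -/
theorem nSum_QZ_expand {x : G} (hx : x ∈ D.Q) (hxZ : x ∉ D.Z) (g : G) :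
    nSum x g = 1 -
      (D.h : ℂ) * (conj ((T.W₁ : G → ℂ) g) + conj ((T.W₂ : G → ℂ) g)) / ((D.q : ℂ) - 1) +
      conjSum T.L g / ((D.q : ℂ) ^ 2 + 1) +
      conjSum T.Y₁ g / (((D.q : ℂ) - 1) * ((D.q : ℂ) - (D.r : ℂ) + 1)) +
      conjSum T.Y₂ g / (((D.q : ℂ) - 1) * ((D.q : ℂ) + (D.r : ℂ) + 1)) := by
  have hx1 : x ≠ 1 := fun h => hxZ (h ▸ D.Z.one_mem)
  have hh0 : (D.h : ℂ) ≠ 0 := by
    have := two_le_h D
    have : D.h ≠ 0 := by omega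
    exact_mod_cast this
  rw [nSum_expand T x g, T.St_Q x hx hx1, T.W₁_QZ x hx hxZ, W₂_sq_QZ T hx hxZ,
    famSum_of_sq_one (L_sq_QZ T hx hxZ), famSum_of_sq_one (Y₁_sq_QZ T hx hxZ),
    famSum_of_sq_one (Y₂_sq_QZ T hx hxZ)]
  have e : (-((D.h : ℂ) ^ 2) * conj ((T.W₁ : G → ℂ) g) + -((D.h : ℂ) ^ 2) * conj ((T.W₂ : G → ℂ) g)) /
      ((D.h : ℂ) * ((D.q : ℂ) - 1)) =
      -((D.h : ℂ) * (conj ((T.W₁ : G → ℂ) g) + conj ((T.W₂ : G → ℂ) g)) / ((D.q : ℂ) - 1)) := by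
    rw [mul_comm (D.h : ℂ) ((D.q : ℂ) - 1), ← div_div]
    field_simp
    ring
  rw [e]
  ring


theorem card_L_R : (T.L.card : ℝ) = (D.h : ℝ) ^ 2 - 1 := by
  have h1 : (T.L.card : ℝ) * 2 + 2 = (D.q : ℝ) := by exact_mod_cast T.card_L
  rw [qR_eq] at h1
  linarith

theorem card_Y₁_R : (T.Y₁.card : ℝ) = (D.h : ℝ) * ((D.h : ℝ) + 1) / 2 := by
  have h1 : (T.Y₁.card : ℝ) * 4 = (D.q : ℝ) + (D.r : ℝ) := by exact_mod_cast T.card_Y₁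
  rw [qR_eq, rR_eq] at h1
  linarith

theorem card_Y₂_R : (T.Y₂.card : ℝ) = (D.h : ℝ) * ((D.h : ℝ) - 1) / 2 := by
  have h1 : (T.Y₂.card : ℝ) * 4 + (D.r : ℝ) = (D.q : ℝ) := by exact_mod_cast T.card_Y₂
  rw [qR_eq, rR_eq] at h1
  linarith

/-- `x ∈ Q ∖ Z`, `g ∈ Z ∖ 1` -/
theorem nSum_QZ_Z {x t : G} (hx : x ∈ D.Q) (hxZ : x ∉ D.Z) (ht : t ∈ D.Z) (ht1 : t ≠ 1) :
    nSum x t ≠ 0 := by
  have htQ : t ∈ D.Q := ht.1
  have hh := hR_ge D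
  set h : ℝ := (D.h : ℝ) with hdef
  have hc : ((h : ℝ) : ℂ) = (D.h : ℂ) := by rw [hdef]; simp
  have hE : nSum x t = (((1 : ℝ) + 2 * h ^ 2 / (2 * h ^ 2 - 1) + (h ^ 2 - 1) / ((2 * h ^ 2) ^ 2 + 1) +
      h * (h + 1) / 2 * (2 * h - 1) / ((2 * h ^ 2 - 1) * (2 * h ^ 2 - 2 * h + 1)) -
      h * (h - 1) / 2 * (2 * h + 1) / ((2 * h ^ 2 - 1) * (2 * h ^ 2 + 2 * h + 1)) : ℝ) : ℂ) := by
    rw [nSum_QZ_expand T hx hxZ, T.W₁_Z t ht ht1, T.W₂_Z t ht ht1,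
      conjSum_const (fun χ hχ => T.L_Q χ hχ t htQ ht1),
      conjSum_const (fun χ hχ => T.Y₁_Z χ hχ t ht ht1),
      conjSum_const (fun χ hχ => T.Y₂_Z χ hχ t ht ht1)]
    have e1 : (T.L.card : ℂ) = (((D.h : ℝ) ^ 2 - 1 : ℝ) : ℂ) := by
      rw [← card_L_R T]; push_cast; rfl
    have e2 : (T.Y₁.card : ℂ) = (((D.h : ℝ) * ((D.h : ℝ) + 1) / 2 : ℝ) : ℂ) := by
      rw [← card_Y₁_R T]; push_cast; rfl
    have e3 : (T.Y₂.card : ℂ) = (((D.h : ℝ) * ((D.h : ℝ) - 1) / 2 : ℝ) : ℂ) := by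
      rw [← card_Y₂_R T]; push_cast; rfl
    rw [e1, e2, e3, qC_eq, rC_eq]
    simp only [map_neg, map_sub, map_one, Complex.conj_natCast, map_mul, map_ofNat]
    push_cast
    simp only [hc]
    ring
  rw [hE, Complex.ofReal_ne_zero]
  have h1 : 0 < 2 * h ^ 2 - 1 := by nlinarith
  have h2 : 0 < 2 * h ^ 2 - 2 * h + 1 := by nlinarith
  have h3 : 0 < 2 * h ^ 2 + 2 * h + 1 := by nlinarith
  have t1 : 0 ≤ 2 * h ^ 2 / (2 * h ^ 2 - 1) := by positivity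
  have t2 : 0 ≤ (h ^ 2 - 1) / ((2 * h ^ 2) ^ 2 + 1) := by
    apply div_nonneg (by nlinarith) (by positivity)
  have t3 : 0 ≤ h * (h + 1) / 2 * (2 * h - 1) / ((2 * h ^ 2 - 1) * (2 * h ^ 2 - 2 * h + 1)) := by
    apply div_nonneg _ (by positivity)
    have : 0 ≤ 2 * h - 1 := by linarith
    positivity
  have t4 : h * (h - 1) / 2 * (2 * h + 1) / ((2 * h ^ 2 - 1) * (2 * h ^ 2 + 2 * h + 1)) < 1 := by
    rw [div_lt_one (by positivity)]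
    nlinarith [mul_pos h1 h3, sq_nonneg h, sq_nonneg (h ^ 2)]
  intro h0
  linarith

/-- `x, y ∈ Q ∖ Z` -/
theorem nSum_QZ_QZ {x y : G} (hx : x ∈ D.Q) (hxZ : x ∉ D.Z) (hy : y ∈ D.Q) (hyZ : y ∉ D.Z) :
    nSum x y ≠ 0 := by
  have hy1 : y ≠ 1 := fun h => hyZ (h ▸ D.Z.one_mem)
  have hh := hR_ge D
  set h : ℝ := (D.h : ℝ) with hdef
  have hc : ((h : ℝ) : ℂ) = (D.h : ℂ) := by rw [hdef]; simp
  have hE : nSum x y = (((1 : ℝ) + (h ^ 2 - 1) / ((2 * h ^ 2) ^ 2 + 1) -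
      h * (h + 1) / 2 / ((2 * h ^ 2 - 1) * (2 * h ^ 2 - 2 * h + 1)) -
      h * (h - 1) / 2 / ((2 * h ^ 2 - 1) * (2 * h ^ 2 + 2 * h + 1)) : ℝ) : ℂ) := by
    rw [nSum_QZ_expand T hx hxZ, T.W₂_QZ y hy hyZ,
      conjSum_const (fun χ hχ => T.L_Q χ hχ y hy hy1),
      conjSum_const (fun χ hχ => T.Y₁_QZ χ hχ y hy hyZ),
      conjSum_const (fun χ hχ => T.Y₂_QZ χ hχ y hy hyZ)]
    have e1 : (T.L.card : ℂ) = (((D.h : ℝ) ^ 2 - 1 : ℝ) : ℂ) := by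
      rw [← card_L_R T]; push_cast; rfl
    have e2 : (T.Y₁.card : ℂ) = (((D.h : ℝ) * ((D.h : ℝ) + 1) / 2 : ℝ) : ℂ) := by
      rw [← card_Y₁_R T]; push_cast; rfl
    have e3 : (T.Y₂.card : ℂ) = (((D.h : ℝ) * ((D.h : ℝ) - 1) / 2 : ℝ) : ℂ) := by
      rw [← card_Y₂_R T]; push_cast; rfl
    rw [e1, e2, e3, qC_eq, rC_eq]
    simp only [map_neg, map_one]
    push_cast
    simp only [hc]
    ring
  rw [hE, Complex.ofReal_ne_zero]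
  have h1 : 0 < 2 * h ^ 2 - 1 := by nlinarith
  have h2 : 0 < 2 * h ^ 2 - 2 * h + 1 := by nlinarith
  have h3 : 0 < 2 * h ^ 2 + 2 * h + 1 := by nlinarith
  have t2 : 0 ≤ (h ^ 2 - 1) / ((2 * h ^ 2) ^ 2 + 1) := by
    apply div_nonneg (by nlinarith) (by positivity)
  have t3 : h * (h + 1) / 2 / ((2 * h ^ 2 - 1) * (2 * h ^ 2 - 2 * h + 1)) < 1 / 2 := by
    rw [div_lt_iff₀ (by positivity)]
    nlinarith [mul_pos h1 h2, sq_nonneg h, sq_nonneg (h ^ 2)]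
  have t4 : h * (h - 1) / 2 / ((2 * h ^ 2 - 1) * (2 * h ^ 2 + 2 * h + 1)) < 1 / 2 := by
    rw [div_lt_iff₀ (by positivity)]
    nlinarith [mul_pos h1 h3, sq_nonneg h, sq_nonneg (h ^ 2)]
  intro h0
  linarith


/-- column orthogonality with the identity, in terms of `conjSum` -/
theorem orth_one_conjSum {g : G} (hg : g ≠ 1) :
    0 = 1 + (D.q : ℂ) ^ 2 * conj ((T.St : G → ℂ) g) +
      (D.h : ℂ) * ((D.q : ℂ) - 1) * (conj ((T.W₁ : G → ℂ) g) + conj ((T.W₂ : G → ℂ) g)) +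
      ((D.q : ℂ) ^ 2 + 1) * conjSum T.L g +
      ((D.q : ℂ) - 1) * ((D.q : ℂ) - (D.r : ℂ) + 1) * conjSum T.Y₁ g +
      ((D.q : ℂ) - 1) * ((D.q : ℂ) + (D.r : ℂ) + 1) * conjSum T.Y₂ g := by
  have h := orth_one T hg
  rw [T.St_one, T.W₁_one, T.W₂_one, famOrth_one_eq T.L_one, famOrth_one_eq T.Y₁_one,
    famOrth_one_eq T.Y₂_one] at h
  rw [h]; ring

/-- `x ∈ Q ∖ Z`, `g ∈ K ∖ 1` -/
theorem nSum_QZ_K {x k : G} (hx : x ∈ D.Q) (hxZ : x ∉ D.Z) (hk : k ∈ D.K) (hk1 : k ≠ 1) :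
    nSum x k ≠ 0 := by
  have ho := orth_one_conjSum T hk1
  have hY₁ : conjSum T.Y₁ k = 0 := by
    rw [conjSum_const (fun χ hχ => T.Y₁_K χ hχ k hk hk1)]; simp
  have hY₂ : conjSum T.Y₂ k = 0 := by
    rw [conjSum_const (fun χ hχ => T.Y₂_K χ hχ k hk hk1)]; simp
  rw [T.St_K k hk hk1, T.W₁_K k hk hk1, T.W₂_K k hk hk1, hY₁, hY₂] at ho
  have hne := qsq_add_one_ne D
  have hL : conjSum T.L k = -1 := by
    have : ((D.q : ℂ) ^ 2 + 1) * (conjSum T.L k + 1) = 0 := by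
      simp only [map_one, map_zero] at ho
      linear_combination -ho
    rcases mul_eq_zero.mp this with h | h
    · exact absurd h hne
    · linear_combination h
  have hq : (2 : ℝ) ≤ (D.q : ℝ) := by exact_mod_cast two_le_q D
  have hE : nSum x k = ((1 - 1 / ((D.q : ℝ) ^ 2 + 1) : ℝ) : ℂ) := by
    rw [nSum_QZ_expand T hx hxZ, T.W₁_K k hk hk1, T.W₂_K k hk hk1, hY₁, hY₂, hL]
    push_cast
    simp
    ring
  rw [hE, Complex.ofReal_ne_zero]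
  have : 1 / ((D.q : ℝ) ^ 2 + 1) < 1 := by
    rw [div_lt_one (by positivity)]
    nlinarith
  linarith

/-- `x ∈ Q ∖ Z`, `g ∈ A₁ ∖ 1` -/
theorem nSum_QZ_A₁ {x a : G} (hx : x ∈ D.Q) (hxZ : x ∉ D.Z) (ha : a ∈ D.A₁) (ha1 : a ≠ 1) :
    nSum x a ≠ 0 := by
  have ho := orth_one_conjSum T ha1
  have hL : conjSum T.L a = 0 := by
    rw [conjSum_const (fun χ hχ => T.L_A₁ χ hχ a ha ha1)]; simp
  have hY₂ : conjSum T.Y₂ a = 0 := by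
    rw [conjSum_const (fun χ hχ => T.Y₂_A₁ χ hχ a ha ha1)]; simp
  rw [T.St_A₁ a ha ha1, T.W₁_A₁ a ha ha1, T.W₂_A₁ a ha ha1, hL, hY₂] at ho
  have hh := hR_ge D
  set h : ℝ := (D.h : ℝ) with hdef
  have hc : ((h : ℝ) : ℂ) = (D.h : ℂ) := by rw [hdef]; simp
  have h1 : 0 < 2 * h ^ 2 - 1 := by nlinarith
  have h2 : 0 < 2 * h ^ 2 - 2 * h + 1 := by nlinarith
  have hD₁ : ((D.q : ℂ) - 1) * ((D.q : ℂ) - (D.r : ℂ) + 1) ≠ 0 := by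
    have : ((D.q : ℂ) - 1) * ((D.q : ℂ) - (D.r : ℂ) + 1) =
        (((2 * h ^ 2 - 1) * (2 * h ^ 2 - 2 * h + 1) : ℝ) : ℂ) := by
      rw [qC_eq, rC_eq]; push_cast; simp only [hc]; try ring
    rw [this, Complex.ofReal_ne_zero]
    positivity
  have hY₁ : conjSum T.Y₁ a = 1 := by
    have : ((D.q : ℂ) - 1) * ((D.q : ℂ) - (D.r : ℂ) + 1) * (conjSum T.Y₁ a - 1) = 0 := by
      simp only [map_one, map_neg] at ho
      rw [rC_eq] at ho ⊢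
      linear_combination -ho
    rcases mul_eq_zero.mp this with h' | h'
    · exact absurd h' hD₁
    · linear_combination h'
  have hE : nSum x a = ((1 - 2 * h / (2 * h ^ 2 - 1) +
      1 / ((2 * h ^ 2 - 1) * (2 * h ^ 2 - 2 * h + 1)) : ℝ) : ℂ) := by
    rw [nSum_QZ_expand T hx hxZ, T.W₁_A₁ a ha ha1, T.W₂_A₁ a ha ha1, hL, hY₂, hY₁, qC_eq, rC_eq]
    push_cast
    simp only [hc, map_one]
    ring
  rw [hE, Complex.ofReal_ne_zero]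
  have t1 : 2 * h / (2 * h ^ 2 - 1) < 1 := by
    rw [div_lt_one h1]; nlinarith
  have t2 : 0 < 1 / ((2 * h ^ 2 - 1) * (2 * h ^ 2 - 2 * h + 1)) := by positivity
  intro h0
  linarith

/-- `x ∈ Q ∖ Z`, `g ∈ A₂ ∖ 1` -/
theorem nSum_QZ_A₂ {x a : G} (hx : x ∈ D.Q) (hxZ : x ∉ D.Z) (ha : a ∈ D.A₂) (ha1 : a ≠ 1) :
    nSum x a ≠ 0 := by
  have ho := orth_one_conjSum T ha1
  have hL : conjSum T.L a = 0 := by
    rw [conjSum_const (fun χ hχ => T.L_A₂ χ hχ a ha ha1)]; simp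
  have hY₁ : conjSum T.Y₁ a = 0 := by
    rw [conjSum_const (fun χ hχ => T.Y₁_A₂ χ hχ a ha ha1)]; simp
  rw [T.St_A₂ a ha ha1, T.W₁_A₂ a ha ha1, T.W₂_A₂ a ha ha1, hL, hY₁] at ho
  have hh := hR_ge D
  set h : ℝ := (D.h : ℝ) with hdef
  have hc : ((h : ℝ) : ℂ) = (D.h : ℂ) := by rw [hdef]; simp
  have h1 : 0 < 2 * h ^ 2 - 1 := by nlinarith
  have h3 : 0 < 2 * h ^ 2 + 2 * h + 1 := by nlinarith
  have hD₂ : ((D.q : ℂ) - 1) * ((D.q : ℂ) + (D.r : ℂ) + 1) ≠ 0 := by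
    have : ((D.q : ℂ) - 1) * ((D.q : ℂ) + (D.r : ℂ) + 1) =
        (((2 * h ^ 2 - 1) * (2 * h ^ 2 + 2 * h + 1) : ℝ) : ℂ) := by
      rw [qC_eq, rC_eq]; push_cast; simp only [hc]; try ring
    rw [this, Complex.ofReal_ne_zero]
    positivity
  have hY₂ : conjSum T.Y₂ a = 1 := by
    have : ((D.q : ℂ) - 1) * ((D.q : ℂ) + (D.r : ℂ) + 1) * (conjSum T.Y₂ a - 1) = 0 := by
      simp only [map_one, map_neg] at ho
      rw [rC_eq] at ho ⊢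
      linear_combination -ho
    rcases mul_eq_zero.mp this with h' | h'
    · exact absurd h' hD₂
    · linear_combination h'
  have hE : nSum x a = ((1 + 2 * h / (2 * h ^ 2 - 1) +
      1 / ((2 * h ^ 2 - 1) * (2 * h ^ 2 + 2 * h + 1)) : ℝ) : ℂ) := by
    rw [nSum_QZ_expand T hx hxZ, T.W₁_A₂ a ha ha1, T.W₂_A₂ a ha ha1, hL, hY₁, hY₂, qC_eq, rC_eq]
    push_cast
    simp only [hc, map_one, map_neg]
    ring
  rw [hE, Complex.ofReal_ne_zero]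
  have t1 : 0 < 2 * h / (2 * h ^ 2 - 1) := by positivity
  have t2 : 0 < 1 / ((2 * h ^ 2 - 1) * (2 * h ^ 2 + 2 * h + 1)) := by positivity
  intro h0
  linarith

end CaseRho

end Cfsg.Agent.Lib.Helper41.SzCov
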