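import Mathlib
import Cfsg.Agent.Lib.Helper41.SzCov.Core

/-!
# SZCOV: the elements of the tori `A₁`, `A₂` are real
-/

set_option autoImplicit false

namespace Cfsg.Agent.Lib.Helper41.SzCov

open Cfsg Cfsg.Agent.Lib.Helper6.SzCh Cfsg.Agent.Lib.Helper78
open scoped ComplexConjugate Classical

universe u

variable {G : Type u} [Group G]

/-- an abelian subgroup `A` of odd order with `C_G(a) = A` for `a ≠ 1` and `|N(A)| = 4 |A|`:
every element of `A` is conjugate to its inverse -/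
theorem exists_conj_inv [Finite G] (A : Subgroup G) (hodd : Odd (Nat.card A))
    (hcomm : ∀ a ∈ A, ∀ b ∈ A, a * b = b * a)
    (hcent : ∀ a ∈ A, a ≠ 1 → Subgroup.centralizer ({a} : Set G) = A)
    (hnorm : Nat.card ↥(Subgroup.normalizer (A : Set G)) = 4 * Nat.card A) :
    ∀ a ∈ A, ∃ n : G, n * a * n⁻¹ = a⁻¹ := by
  intro a ha
  have h2 : 2 ∣ Nat.card ↥(Subgroup.normalizer (A : Set G)) := by
    rw [hnorm]; exact ⟨2 * Nat.card A, by ring⟩
  have : Fact (Nat.Prime 2) := ⟨Nat.prime_two⟩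
  obtain ⟨x, hx⟩ := exists_prime_orderOf_dvd_card' 2 h2
  set t : G := (x : G) with ht
  have htN : t ∈ Subgroup.normalizer (A : Set G) := x.2
  have hot : orderOf t = 2 := by rw [ht, Subgroup.orderOf_coe]; exact hx
  have htA : t ∉ A := by
    intro h
    have h3 : orderOf (⟨t, h⟩ : ↥A) ∣ Nat.card A := orderOf_dvd_natCard _
    have h4 : orderOf (⟨t, h⟩ : ↥A) = 2 := by
      rw [← Subgroup.orderOf_coe]; exact hot
    rw [h4] at h3
    exact (Nat.not_even_iff_odd.mpr hodd) (even_iff_two_dvd.mpr h3)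
  have htt : t * t = 1 := by
    have := pow_orderOf_eq_one t
    rw [hot, pow_two] at this
    exact this
  have htinv : t⁻¹ = t := inv_eq_of_mul_eq_one_left htt
  have hθ : ∀ b ∈ A, t * b * t⁻¹ ∈ A := fun b hb => ((Subgroup.mem_normalizer_iff.mp htN) b).mp hb
  refine ⟨t, ?_⟩
  set b : G := a * (t * a * t⁻¹) with hb
  have hbA : b ∈ A := A.mul_mem ha (hθ a ha)
  have hfix : t * b * t⁻¹ = b := by
    have e : t * b * t⁻¹ = (t * a * t⁻¹) * (t * t * a * (t * t)⁻¹) := by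
      rw [hb]; group
    rw [e, htt]
    simp only [one_mul, inv_one, mul_one]
    exact hcomm _ (hθ a ha) _ ha
  by_cases hb1 : b = 1
  · rw [hb] at hb1
    exact (eq_inv_of_mul_eq_one_right hb1)
  · exfalso
    apply htA
    rw [← hcent b hbA hb1, Subgroup.mem_centralizer_iff]
    intro y hy
    rw [Set.mem_singleton_iff] at hy
    rw [hy]
    have : t * b = b * t := by
      calc t * b = (t * b * t⁻¹) * t := by group
        _ = b * t := by rw [hfix]
    exact this.symm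

/-- irreducible characters are real at elements conjugate to their inverses -/
theorem conj_eq_self_of_conj_inv [Fintype G] (χ : IrrCharacter G) {a n : G} (h : n * a * n⁻¹ = a⁻¹) :
    conj ((χ : G → ℂ) a) = (χ : G → ℂ) a := by
  rw [← IsCharacter.inv (IsIrrCharacter.isCharacter χ.2) a, ← h]
  exact isClassFunction_irr χ a n

theorem sq_eq_norm_sq_of_conj_eq_self {z : ℂ} (h : conj z = z) : z ^ 2 = ((‖z‖ ^ 2 : ℝ) : ℂ) := by
  rw [sq, ← Complex.normSq_eq_norm_sq, ← Complex.mul_conj, h]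

theorem odd_card_A₁ (D : SzData G) : Odd (Nat.card ↥D.A₁) := by
  rw [D.card_A₁]
  refine ⟨2 ^ (2 * D.m) + 2 ^ D.m, ?_⟩
  unfold qOf rOf
  rw [pow_succ, pow_succ]
  ring

theorem odd_card_A₂ (D : SzData G) : Odd (Nat.card ↥D.A₂) := by
  have h := D.card_A₂
  unfold qOf rOf at h
  rw [pow_succ, pow_succ] at h
  have hle : 2 ^ D.m ≤ 2 ^ (2 * D.m) := Nat.pow_le_pow_right (by norm_num) (by omega)
  refine ⟨2 ^ (2 * D.m) - 2 ^ D.m, ?_⟩
  omega

theorem real_A₁ [Fintype G] (D : SzData G) (χ : IrrCharacter G) {a : G} (ha : a ∈ D.A₁) :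
    conj ((χ : G → ℂ) a) = (χ : G → ℂ) a := by
  obtain ⟨n, hn⟩ := exists_conj_inv D.A₁ (odd_card_A₁ D) D.A₁_comm D.cent_A₁ D.card_norm_A₁ a ha
  exact conj_eq_self_of_conj_inv χ hn

theorem real_A₂ [Fintype G] (D : SzData G) (χ : IrrCharacter G) {a : G} (ha : a ∈ D.A₂) :
    conj ((χ : G → ℂ) a) = (χ : G → ℂ) a := by
  obtain ⟨n, hn⟩ := exists_conj_inv D.A₂ (odd_card_A₂ D) D.A₂_comm D.cent_A₂ D.card_norm_A₂ a ha
  exact conj_eq_self_of_conj_inv χ hn

end Cfsg.Agent.Lib.Helper41.SzCov
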