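import Mathlib
import Cfsg.Agent.Lib.Helper41.SzCov.CaseRho
import Cfsg.Agent.Lib.Helper41.SzCov.Real

/-!
# SZCOV: the cases `x ∈ A₁ ∖ 1` and `x ∈ A₂ ∖ 1`
-/

set_option autoImplicit false

namespace Cfsg.Agent.Lib.Helper41.SzCov

open Cfsg Cfsg.Agent.Lib.Helper6.SzCh Cfsg.Agent.Lib.Helper78
open scoped ComplexConjugate Classical

universe u

variable {G : Type u} [Group G]

/-! ### arithmetic -/

theorem arith_M₁ {h : ℝ} (hh : 2 ≤ h) :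
    (2 * h ^ 2 + 2 * h - 3) ^ 3 < ((2 * h ^ 2 - 1) * (2 * h ^ 2 - 2 * h + 1)) ^ 2 := by
  obtain ⟨s, hs, rfl⟩ : ∃ s : ℝ, 0 ≤ s ∧ h = 2 + s := ⟨h - 2, by linarith, by ring⟩
  have e : ((2 * (2 + s) ^ 2 - 1) * (2 * (2 + s) ^ 2 - 2 * (2 + s) + 1)) ^ 2 -
      (2 * (2 + s) ^ 2 + 2 * (2 + s) - 3) ^ 3 =
      496 + 3310 * s + 8578 * s ^ 2 + 11688 * s ^ 3 + 9348 * s ^ 4 + 4568 * s ^ 5 + 1352 * s ^ 6 +
        224 * s ^ 7 + 16 * s ^ 8 := by ring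
  have : 0 < 496 + 3310 * s + 8578 * s ^ 2 + 11688 * s ^ 3 + 9348 * s ^ 4 + 4568 * s ^ 5 +
      1352 * s ^ 6 + 224 * s ^ 7 + 16 * s ^ 8 := by positivity
  linarith

theorem arith_M₂ {h : ℝ} (hh : 2 ≤ h) :
    4 * (2 * h ^ 2 - 2 * h - 3) ^ 3 < ((2 * h ^ 2 - 1) * (2 * h ^ 2 + 2 * h + 1)) ^ 2 := by
  obtain ⟨s, hs, rfl⟩ : ∃ s : ℝ, 0 ≤ s ∧ h = 2 + s := ⟨h - 2, by linarith, by ring⟩
  have e : ((2 * (2 + s) ^ 2 - 1) * (2 * (2 + s) ^ 2 + 2 * (2 + s) + 1)) ^ 2 -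
      4 * (2 * (2 + s) ^ 2 - 2 * (2 + s) - 3) ^ 3 =
      8277 + 31596 * s + 51660 * s ^ 2 + 47160 * s ^ 3 + 26744 * s ^ 4 + 9744 * s ^ 5 + 2224 * s ^ 6 +
        288 * s ^ 7 + 16 * s ^ 8 := by ring
  have : 0 < 8277 + 31596 * s + 51660 * s ^ 2 + 47160 * s ^ 3 + 26744 * s ^ 4 + 9744 * s ^ 5 +
      2224 * s ^ 6 + 288 * s ^ 7 + 16 * s ^ 8 := by positivity
  linarith

/-- `√M · M < D` if `M³ < D²` -/
theorem sqrt_mul_lt {M Dn : ℝ} (hM : 0 ≤ M) (hD : 0 < Dn) (h : M ^ 3 < Dn ^ 2) :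
    Real.sqrt M * M < Dn := by
  have h1 : 0 ≤ Real.sqrt M * M := mul_nonneg (Real.sqrt_nonneg _) hM
  have h2 : (Real.sqrt M * M) ^ 2 = M ^ 3 := by
    rw [mul_pow, Real.sq_sqrt hM]; ring
  by_contra hlt
  push Not at hlt
  have : Dn ^ 2 ≤ (Real.sqrt M * M) ^ 2 := by
    apply pow_le_pow_left₀ hD.le hlt
  linarith

section Fam3

/-- bound of a family sum by `√(mass g) · mass x` -/
theorem norm_famSum_le_sqrt (S : Finset (IrrCharacter G)) (x g : G) :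
    ‖famSum S x g‖ ≤ Real.sqrt (mass S g) * mass S x := by
  apply norm_famSum_le
  intro χ hχ
  apply Real.le_sqrt_of_sq_le
  exact norm_sq_le_mass hχ g

/-- real-valued family: `∑ χ(x)² = mass` -/
theorem sum_sq_eq_mass {S : Finset (IrrCharacter G)} {x : G}
    (hreal : ∀ χ ∈ S, conj ((χ : G → ℂ) x) = (χ : G → ℂ) x) :
    ∑ χ ∈ S, (χ : G → ℂ) x ^ 2 = ((mass S x : ℝ) : ℂ) := by
  unfold mass
  push_cast
  apply Finset.sum_congr rfl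
  intro χ hχ
  rw [sq_eq_norm_sq_of_conj_eq_self (hreal χ hχ)]
  push_cast
  rfl

theorem famSum_const_right (S : Finset (IrrCharacter G)) (x : G) {g : G} {v : ℂ}
    (hg : ∀ χ ∈ S, (χ : G → ℂ) g = v) :
    famSum S x g = (∑ χ ∈ S, (χ : G → ℂ) x ^ 2) * conj v := by
  unfold famSum
  rw [Finset.sum_mul]
  exact Finset.sum_congr rfl (fun χ hχ => by rw [hg χ hχ])

theorem norm_sum_sq_le_mass (S : Finset (IrrCharacter G)) (x : G) :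
    ‖∑ χ ∈ S, (χ : G → ℂ) x ^ 2‖ ≤ mass S x := by
  unfold mass
  refine (norm_sum_le _ _).trans (le_of_eq ?_)
  apply Finset.sum_congr rfl
  intro χ _
  rw [norm_pow]

end Fam3


section CaseA

variable [Fintype G] {D : SzData G} (T : SzTable D)
include T

/-- the expansion of `nSum x g` for `x` in a torus `A₁ ∖ 1` or `A₂ ∖ 1` -/
theorem nSum_torus_expand (x g : G) (hSt : (T.St : G → ℂ) x ^ 2 = 1) (hW₁ : (T.W₁ : G → ℂ) x ^ 2 = 1)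
    (hW₂ : (T.W₂ : G → ℂ) x ^ 2 = 1) (hL : ∀ χ ∈ T.L, (χ : G → ℂ) x = 0) :
    nSum x g = 1 + conj ((T.St : G → ℂ) g) / (D.q : ℂ) ^ 2 +
      (conj ((T.W₁ : G → ℂ) g) + conj ((T.W₂ : G → ℂ) g)) / ((D.h : ℂ) * ((D.q : ℂ) - 1)) +
      famSum T.Y₁ x g / (((D.q : ℂ) - 1) * ((D.q : ℂ) - (D.r : ℂ) + 1)) +
      famSum T.Y₂ x g / (((D.q : ℂ) - 1) * ((D.q : ℂ) + (D.r : ℂ) + 1)) := by
  rw [nSum_expand T x g, hSt, hW₁, hW₂, famSum_eq_zero_of_left g hL]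
  ring

theorem mass_Y₁_A₁ {a : G} (ha : a ∈ D.A₁) (ha1 : a ≠ 1) :
    mass T.Y₁ a = 2 * (D.h : ℝ) ^ 2 + 2 * (D.h : ℝ) - 3 := by
  have h := orth_self T a
  rw [card_cent_A₁ D ha ha1, T.St_A₁ a ha ha1, T.W₁_A₁ a ha ha1, T.W₂_A₁ a ha ha1,
    famOrth_self, famOrth_self, famOrth_self, mass_eq_zero (fun χ hχ => T.L_A₁ χ hχ a ha ha1),
    mass_eq_zero (fun χ hχ => T.Y₂_A₁ χ hχ a ha ha1)] at h
  have h' : ((mass T.Y₁ a : ℝ) : ℂ) = ((2 * (D.h : ℝ) ^ 2 + 2 * (D.h : ℝ) - 3 : ℝ) : ℂ) := by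
    push_cast
    simp only [map_one, map_neg, Complex.ofReal_zero, add_zero] at h
    have e : ((D.q + D.r + 1 : ℕ) : ℂ) = 2 * (D.h : ℂ) ^ 2 + 2 * (D.h : ℂ) + 1 := by
      push_cast; rw [qC_eq, rC_eq]
    rw [e] at h
    linear_combination -h
  exact_mod_cast h'

theorem mass_Y₂_A₂ {a : G} (ha : a ∈ D.A₂) (ha1 : a ≠ 1) :
    mass T.Y₂ a = 2 * (D.h : ℝ) ^ 2 - 2 * (D.h : ℝ) - 3 := by
  have h := orth_self T a
  have hc := card_cent_A₂ D ha ha1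
  rw [T.St_A₂ a ha ha1, T.W₁_A₂ a ha ha1, T.W₂_A₂ a ha ha1,
    famOrth_self, famOrth_self, famOrth_self, mass_eq_zero (fun χ hχ => T.L_A₂ χ hχ a ha ha1),
    mass_eq_zero (fun χ hχ => T.Y₁_A₂ χ hχ a ha ha1)] at h
  have hc' : (Nat.card ↥(Subgroup.centralizer ({a} : Set G)) : ℂ) =
      2 * (D.h : ℂ) ^ 2 - 2 * (D.h : ℂ) + 1 := by
    have : ((Nat.card ↥(Subgroup.centralizer ({a} : Set G)) + D.r : ℕ) : ℂ) = ((D.q + 1 : ℕ) : ℂ) := by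
      rw [hc]
    push_cast at this
    rw [qC_eq, rC_eq] at this
    linear_combination this
  have h' : ((mass T.Y₂ a : ℝ) : ℂ) = ((2 * (D.h : ℝ) ^ 2 - 2 * (D.h : ℝ) - 3 : ℝ) : ℂ) := by
    push_cast
    simp only [map_one, map_neg, Complex.ofReal_zero, add_zero] at h
    rw [hc'] at h
    linear_combination -h
  exact_mod_cast h'


/-- common data for `x ∈ A₁ ∖ 1` -/
theorem nSum_A₁_expand {a : G} (ha : a ∈ D.A₁) (ha1 : a ≠ 1) (g : G) :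
    nSum a g = 1 + conj ((T.St : G → ℂ) g) / (D.q : ℂ) ^ 2 +
      (conj ((T.W₁ : G → ℂ) g) + conj ((T.W₂ : G → ℂ) g)) / ((D.h : ℂ) * ((D.q : ℂ) - 1)) +
      famSum T.Y₁ a g / (((D.q : ℂ) - 1) * ((D.q : ℂ) - (D.r : ℂ) + 1)) := by
  rw [nSum_torus_expand T a g (by rw [T.St_A₁ a ha ha1]; norm_num)
    (by rw [T.W₁_A₁ a ha ha1]; norm_num) (by rw [T.W₂_A₁ a ha ha1]; norm_num)
    (fun χ hχ => T.L_A₁ χ hχ a ha ha1),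
    famSum_eq_zero_of_left g (fun χ hχ => T.Y₂_A₁ χ hχ a ha ha1)]
  ring

/-- common data for `x ∈ A₂ ∖ 1` -/
theorem nSum_A₂_expand {a : G} (ha : a ∈ D.A₂) (ha1 : a ≠ 1) (g : G) :
    nSum a g = 1 + conj ((T.St : G → ℂ) g) / (D.q : ℂ) ^ 2 +
      (conj ((T.W₁ : G → ℂ) g) + conj ((T.W₂ : G → ℂ) g)) / ((D.h : ℂ) * ((D.q : ℂ) - 1)) +
      famSum T.Y₂ a g / (((D.q : ℂ) - 1) * ((D.q : ℂ) + (D.r : ℂ) + 1)) := by
  rw [nSum_torus_expand T a g (by rw [T.St_A₂ a ha ha1]; norm_num)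
    (by rw [T.W₁_A₂ a ha ha1]; norm_num) (by rw [T.W₂_A₂ a ha ha1]; norm_num)
    (fun χ hχ => T.L_A₂ χ hχ a ha ha1),
    famSum_eq_zero_of_left g (fun χ hχ => T.Y₁_A₂ χ hχ a ha ha1)]
  ring

theorem sum_sq_Y₁_A₁ {a : G} (ha : a ∈ D.A₁) (ha1 : a ≠ 1) :
    ∑ χ ∈ T.Y₁, (χ : G → ℂ) a ^ 2 = ((2 * (D.h : ℝ) ^ 2 + 2 * (D.h : ℝ) - 3 : ℝ) : ℂ) := by
  rw [sum_sq_eq_mass (fun χ _ => real_A₁ D χ ha), mass_Y₁_A₁ T ha ha1]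

theorem sum_sq_Y₂_A₂ {a : G} (ha : a ∈ D.A₂) (ha1 : a ≠ 1) :
    ∑ χ ∈ T.Y₂, (χ : G → ℂ) a ^ 2 = ((2 * (D.h : ℝ) ^ 2 - 2 * (D.h : ℝ) - 3 : ℝ) : ℂ) := by
  rw [sum_sq_eq_mass (fun χ _ => real_A₂ D χ ha), mass_Y₂_A₂ T ha ha1]

/-- `x ∈ A₁ ∖ 1`, `g ∈ Z ∖ 1` -/
theorem nSum_A₁_Z {a t : G} (ha : a ∈ D.A₁) (ha1 : a ≠ 1) (ht : t ∈ D.Z) (ht1 : t ≠ 1) :
    nSum a t ≠ 0 := by
  have htQ : t ∈ D.Q := ht.1
  have hh := hR_ge D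
  set h : ℝ := (D.h : ℝ) with hdef
  have hc : ((h : ℝ) : ℂ) = (D.h : ℂ) := by rw [hdef]; simp
  have h0 : (D.h : ℂ) ≠ 0 := by
    rw [← hc, Complex.ofReal_ne_zero]; linarith
  have hE : nSum a t = ((1 - 2 / (2 * h ^ 2 - 1) +
      (2 * h ^ 2 + 2 * h - 3) * (2 * h - 1) / ((2 * h ^ 2 - 1) * (2 * h ^ 2 - 2 * h + 1)) : ℝ) : ℂ) := by
    rw [nSum_A₁_expand T ha ha1, T.St_Q t htQ ht1, T.W₁_Z t ht ht1, T.W₂_Z t ht ht1,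
      famSum_const_right T.Y₁ a (fun χ hχ => T.Y₁_Z χ hχ t ht ht1), sum_sq_Y₁_A₁ T ha ha1,
      qC_eq, rC_eq]
    simp only [map_zero, map_neg, map_sub, map_one, map_mul, map_ofNat, Complex.conj_natCast]
    push_cast
    simp only [hc]
    field_simp
    ring
  rw [hE, Complex.ofReal_ne_zero]
  have h1 : 0 < 2 * h ^ 2 - 1 := by nlinarith
  have h2 : 0 < 2 * h ^ 2 - 2 * h + 1 := by nlinarith
  have t1 : 2 / (2 * h ^ 2 - 1) < 1 := by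
    rw [div_lt_one h1]; nlinarith
  have t2 : 0 ≤ (2 * h ^ 2 + 2 * h - 3) * (2 * h - 1) / ((2 * h ^ 2 - 1) * (2 * h ^ 2 - 2 * h + 1)) := by
    apply div_nonneg _ (by positivity)
    apply mul_nonneg <;> nlinarith
  intro h0'
  linarith

/-- `x ∈ A₁ ∖ 1`, `g ∈ Q ∖ Z` -/
theorem nSum_A₁_QZ {a y : G} (ha : a ∈ D.A₁) (ha1 : a ≠ 1) (hy : y ∈ D.Q) (hyZ : y ∉ D.Z) :
    nSum a y ≠ 0 := by
  have hy1 : y ≠ 1 := fun h => hyZ (h ▸ D.Z.one_mem)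
  have hh := hR_ge D
  set h : ℝ := (D.h : ℝ) with hdef
  have hc : ((h : ℝ) : ℂ) = (D.h : ℂ) := by rw [hdef]; simp
  have hE : nSum a y = ((1 -
      (2 * h ^ 2 + 2 * h - 3) / ((2 * h ^ 2 - 1) * (2 * h ^ 2 - 2 * h + 1)) : ℝ) : ℂ) := by
    rw [nSum_A₁_expand T ha ha1, T.St_Q y hy hy1, T.W₂_QZ y hy hyZ,
      famSum_const_right T.Y₁ a (fun χ hχ => T.Y₁_QZ χ hχ y hy hyZ), sum_sq_Y₁_A₁ T ha ha1,
      qC_eq, rC_eq]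
    simp only [map_zero, map_neg, map_one]
    push_cast
    simp only [hc]
    ring
  rw [hE, Complex.ofReal_ne_zero]
  have h1 : 0 < 2 * h ^ 2 - 1 := by nlinarith
  have h2 : 0 < 2 * h ^ 2 - 2 * h + 1 := by nlinarith
  have t1 : (2 * h ^ 2 + 2 * h - 3) / ((2 * h ^ 2 - 1) * (2 * h ^ 2 - 2 * h + 1)) < 1 := by
    rw [div_lt_one (by positivity)]
    nlinarith [mul_pos h1 h2, sq_nonneg h, sq_nonneg (h ^ 2)]
  intro h0'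
  linarith

/-- `x` in a torus, `g ∈ K ∖ 1` -/
theorem nSum_A₁_K {a k : G} (ha : a ∈ D.A₁) (ha1 : a ≠ 1) (hk : k ∈ D.K) (hk1 : k ≠ 1) :
    nSum a k ≠ 0 := by
  have hq : (2 : ℝ) ≤ (D.q : ℝ) := by exact_mod_cast two_le_q D
  have hE : nSum a k = ((1 + 1 / (D.q : ℝ) ^ 2 : ℝ) : ℂ) := by
    rw [nSum_A₁_expand T ha ha1, T.St_K k hk hk1, T.W₁_K k hk hk1, T.W₂_K k hk hk1,
      famSum_eq_zero_of_right a (fun χ hχ => T.Y₁_K χ hχ k hk hk1)]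
    push_cast
    simp
  rw [hE, Complex.ofReal_ne_zero]
  positivity

theorem nSum_A₂_K {a k : G} (ha : a ∈ D.A₂) (ha1 : a ≠ 1) (hk : k ∈ D.K) (hk1 : k ≠ 1) :
    nSum a k ≠ 0 := by
  have hq : (2 : ℝ) ≤ (D.q : ℝ) := by exact_mod_cast two_le_q D
  have hE : nSum a k = ((1 + 1 / (D.q : ℝ) ^ 2 : ℝ) : ℂ) := by
    rw [nSum_A₂_expand T ha ha1, T.St_K k hk hk1, T.W₁_K k hk hk1, T.W₂_K k hk hk1,
      famSum_eq_zero_of_right a (fun χ hχ => T.Y₂_K χ hχ k hk hk1)]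
    push_cast
    simp
  rw [hE, Complex.ofReal_ne_zero]
  positivity


/-- `x ∈ A₁ ∖ 1`, `g ∈ A₂ ∖ 1` -/
theorem nSum_A₁_A₂ {a b : G} (ha : a ∈ D.A₁) (ha1 : a ≠ 1) (hb : b ∈ D.A₂) (hb1 : b ≠ 1) :
    nSum a b ≠ 0 := by
  have hh := hR_ge D
  set h : ℝ := (D.h : ℝ) with hdef
  have hc : ((h : ℝ) : ℂ) = (D.h : ℂ) := by rw [hdef]; simp
  have hE : nSum a b = ((1 - 1 / (2 * h ^ 2) ^ 2 - 2 / (h * (2 * h ^ 2 - 1)) : ℝ) : ℂ) := by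
    rw [nSum_A₁_expand T ha ha1, T.St_A₂ b hb hb1, T.W₁_A₂ b hb hb1, T.W₂_A₂ b hb hb1,
      famSum_eq_zero_of_right a (fun χ hχ => T.Y₁_A₂ χ hχ b hb hb1), qC_eq]
    simp only [map_neg, map_one]
    push_cast
    simp only [hc]
    ring
  rw [hE, Complex.ofReal_ne_zero]
  have h1 : 0 < 2 * h ^ 2 - 1 := by nlinarith
  have t1 : 1 / (2 * h ^ 2) ^ 2 ≤ 1 / 64 := by
    rw [div_le_div_iff₀ (by positivity) (by norm_num)]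
    have h8 : 8 ≤ 2 * h ^ 2 := by nlinarith
    nlinarith [mul_le_mul h8 h8 (by norm_num) (by linarith)]
  have t2 : 2 / (h * (2 * h ^ 2 - 1)) ≤ 1 / 7 := by
    rw [div_le_div_iff₀ (by positivity) (by norm_num)]
    nlinarith [mul_pos (by linarith : (0:ℝ) < h) h1]
  intro h0'
  linarith

/-- `x ∈ A₂ ∖ 1`, `g ∈ A₁ ∖ 1` -/
theorem nSum_A₂_A₁ {a b : G} (ha : a ∈ D.A₂) (ha1 : a ≠ 1) (hb : b ∈ D.A₁) (hb1 : b ≠ 1) :
    nSum a b ≠ 0 := by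
  have hh := hR_ge D
  set h : ℝ := (D.h : ℝ) with hdef
  have hc : ((h : ℝ) : ℂ) = (D.h : ℂ) := by rw [hdef]; simp
  have hE : nSum a b = ((1 - 1 / (2 * h ^ 2) ^ 2 + 2 / (h * (2 * h ^ 2 - 1)) : ℝ) : ℂ) := by
    rw [nSum_A₂_expand T ha ha1, T.St_A₁ b hb hb1, T.W₁_A₁ b hb hb1, T.W₂_A₁ b hb hb1,
      famSum_eq_zero_of_right a (fun χ hχ => T.Y₂_A₁ χ hχ b hb hb1), qC_eq]
    simp only [map_neg, map_one]
    push_cast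
    simp only [hc]
    ring
  rw [hE, Complex.ofReal_ne_zero]
  have h1 : 0 < 2 * h ^ 2 - 1 := by nlinarith
  have t1 : 1 / (2 * h ^ 2) ^ 2 ≤ 1 / 64 := by
    rw [div_le_div_iff₀ (by positivity) (by norm_num)]
    have h8 : 8 ≤ 2 * h ^ 2 := by nlinarith
    nlinarith [mul_le_mul h8 h8 (by norm_num) (by linarith)]
  have t2 : 0 < 2 / (h * (2 * h ^ 2 - 1)) := by positivity
  intro h0'
  linarith

/-- `x ∈ A₂ ∖ 1`, `g ∈ Z ∖ 1` -/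
theorem nSum_A₂_Z {a t : G} (ha : a ∈ D.A₂) (ha1 : a ≠ 1) (ht : t ∈ D.Z) (ht1 : t ≠ 1) :
    nSum a t ≠ 0 := by
  have htQ : t ∈ D.Q := ht.1
  have hh := hR_ge D
  set h : ℝ := (D.h : ℝ) with hdef
  have hc : ((h : ℝ) : ℂ) = (D.h : ℂ) := by rw [hdef]; simp
  have h0 : (D.h : ℂ) ≠ 0 := by
    rw [← hc, Complex.ofReal_ne_zero]; linarith
  have hE : nSum a t = ((1 - 2 / (2 * h ^ 2 - 1) -
      (2 * h ^ 2 - 2 * h - 3) * (2 * h + 1) / ((2 * h ^ 2 - 1) * (2 * h ^ 2 + 2 * h + 1)) : ℝ) : ℂ) := by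
    rw [nSum_A₂_expand T ha ha1, T.St_Q t htQ ht1, T.W₁_Z t ht ht1, T.W₂_Z t ht ht1,
      famSum_const_right T.Y₂ a (fun χ hχ => T.Y₂_Z χ hχ t ht ht1), sum_sq_Y₂_A₂ T ha ha1,
      qC_eq, rC_eq]
    simp only [map_zero, map_neg, map_sub, map_one, map_mul, map_ofNat, Complex.conj_natCast]
    push_cast
    simp only [hc]
    field_simp
    ring
  rw [hE, Complex.ofReal_ne_zero]
  have h1 : 0 < 2 * h ^ 2 - 1 := by nlinarith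
  have h3 : 0 < 2 * h ^ 2 + 2 * h + 1 := by nlinarith
  have key : 2 / (2 * h ^ 2 - 1) +
      (2 * h ^ 2 - 2 * h - 3) * (2 * h + 1) / ((2 * h ^ 2 - 1) * (2 * h ^ 2 + 2 * h + 1)) < 1 := by
    rw [div_add_div _ _ h1.ne' (mul_pos h1 h3).ne', div_lt_one (by positivity)]
    nlinarith [mul_pos h1 h3, sq_nonneg h, sq_nonneg (h ^ 2), mul_pos h1 h1]
  intro h0'
  linarith

/-- `x ∈ A₂ ∖ 1`, `g ∈ Q ∖ Z` -/
theorem nSum_A₂_QZ {a y : G} (ha : a ∈ D.A₂) (ha1 : a ≠ 1) (hy : y ∈ D.Q) (hyZ : y ∉ D.Z) :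
    nSum a y ≠ 0 := by
  have hy1 : y ≠ 1 := fun h => hyZ (h ▸ D.Z.one_mem)
  have hh := hR_ge D
  set h : ℝ := (D.h : ℝ) with hdef
  have hc : ((h : ℝ) : ℂ) = (D.h : ℂ) := by rw [hdef]; simp
  have hE : nSum a y = ((1 -
      (2 * h ^ 2 - 2 * h - 3) / ((2 * h ^ 2 - 1) * (2 * h ^ 2 + 2 * h + 1)) : ℝ) : ℂ) := by
    rw [nSum_A₂_expand T ha ha1, T.St_Q y hy hy1, T.W₂_QZ y hy hyZ,
      famSum_const_right T.Y₂ a (fun χ hχ => T.Y₂_QZ χ hχ y hy hyZ), sum_sq_Y₂_A₂ T ha ha1,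
      qC_eq, rC_eq]
    simp only [map_zero, map_neg, map_one]
    push_cast
    simp only [hc]
    ring
  rw [hE, Complex.ofReal_ne_zero]
  have h1 : 0 < 2 * h ^ 2 - 1 := by nlinarith
  have h3 : 0 < 2 * h ^ 2 + 2 * h + 1 := by nlinarith
  have t1 : (2 * h ^ 2 - 2 * h - 3) / ((2 * h ^ 2 - 1) * (2 * h ^ 2 + 2 * h + 1)) < 1 := by
    rw [div_lt_one (by positivity)]
    nlinarith [mul_pos h1 h3, sq_nonneg h, sq_nonneg (h ^ 2)]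
  intro h0'
  linarith


/-- `x, g ∈ A₁ ∖ 1` -/
theorem nSum_A₁_A₁ {a b : G} (ha : a ∈ D.A₁) (ha1 : a ≠ 1) (hb : b ∈ D.A₁) (hb1 : b ≠ 1) :
    nSum a b ≠ 0 := by
  have hh := hR_ge D
  set h : ℝ := (D.h : ℝ) with hdef
  have hc : ((h : ℝ) : ℂ) = (D.h : ℂ) := by rw [hdef]; simp
  have h1 : 0 < 2 * h ^ 2 - 1 := by nlinarith
  have h2 : 0 < 2 * h ^ 2 - 2 * h + 1 := by nlinarith
  have hE : nSum a b = ((1 - 1 / (2 * h ^ 2) ^ 2 + 2 / (h * (2 * h ^ 2 - 1)) : ℝ) : ℂ) +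
      famSum T.Y₁ a b / (((2 * h ^ 2 - 1) * (2 * h ^ 2 - 2 * h + 1) : ℝ) : ℂ) := by
    rw [nSum_A₁_expand T ha ha1, T.St_A₁ b hb hb1, T.W₁_A₁ b hb hb1, T.W₂_A₁ b hb hb1, qC_eq, rC_eq]
    simp only [map_neg, map_one]
    push_cast
    simp only [hc]
    ring
  rw [hE]
  apply ne_zero_of_real_add
  have hF := norm_famSum_le_sqrt T.Y₁ a b
  rw [mass_Y₁_A₁ T ha ha1, mass_Y₁_A₁ T hb hb1] at hF
  have hM : 0 ≤ 2 * h ^ 2 + 2 * h - 3 := by nlinarith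
  have hlt := sqrt_mul_lt hM (mul_pos h1 h2) (arith_M₁ hh)
  rw [norm_div, Complex.norm_real, Real.norm_eq_abs, abs_of_pos (mul_pos h1 h2)]
  have t0 : ‖famSum T.Y₁ a b‖ / ((2 * h ^ 2 - 1) * (2 * h ^ 2 - 2 * h + 1)) < 1 := by
    rw [div_lt_one (mul_pos h1 h2)]
    exact lt_of_le_of_lt hF hlt
  have t1 : 1 / (2 * h ^ 2) ^ 2 ≤ 2 / (h * (2 * h ^ 2 - 1)) := by
    rw [div_le_div_iff₀ (by positivity) (by positivity)]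
    nlinarith [mul_pos (by linarith : (0:ℝ) < h) h1, sq_nonneg (h ^ 2), sq_nonneg h,
      mul_pos (by linarith : (0:ℝ) < h) (by positivity : (0:ℝ) < h ^ 2)]
  linarith

/-- `x, g ∈ A₂ ∖ 1` -/
theorem nSum_A₂_A₂ {a b : G} (ha : a ∈ D.A₂) (ha1 : a ≠ 1) (hb : b ∈ D.A₂) (hb1 : b ≠ 1) :
    nSum a b ≠ 0 := by
  have hh := hR_ge D
  set h : ℝ := (D.h : ℝ) with hdef
  have hc : ((h : ℝ) : ℂ) = (D.h : ℂ) := by rw [hdef]; simp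
  have h1 : 0 < 2 * h ^ 2 - 1 := by nlinarith
  have h3 : 0 < 2 * h ^ 2 + 2 * h + 1 := by nlinarith
  have hE : nSum a b = ((1 - 1 / (2 * h ^ 2) ^ 2 - 2 / (h * (2 * h ^ 2 - 1)) : ℝ) : ℂ) +
      famSum T.Y₂ a b / (((2 * h ^ 2 - 1) * (2 * h ^ 2 + 2 * h + 1) : ℝ) : ℂ) := by
    rw [nSum_A₂_expand T ha ha1, T.St_A₂ b hb hb1, T.W₁_A₂ b hb hb1, T.W₂_A₂ b hb hb1, qC_eq, rC_eq]
    simp only [map_neg, map_one]
    push_cast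
    simp only [hc]
    ring
  rw [hE]
  apply ne_zero_of_real_add
  have hF := norm_famSum_le_sqrt T.Y₂ a b
  rw [mass_Y₂_A₂ T ha ha1, mass_Y₂_A₂ T hb hb1] at hF
  have hM : 0 ≤ 2 * h ^ 2 - 2 * h - 3 := by nlinarith
  have hD : 0 < (2 * h ^ 2 - 1) * (2 * h ^ 2 + 2 * h + 1) / 2 := by positivity
  have hlt := sqrt_mul_lt hM hD (by
    have := arith_M₂ hh
    rw [div_pow]
    linarith)
  rw [norm_div, Complex.norm_real, Real.norm_eq_abs, abs_of_pos (mul_pos h1 h3)]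
  have t0 : ‖famSum T.Y₂ a b‖ / ((2 * h ^ 2 - 1) * (2 * h ^ 2 + 2 * h + 1)) < 1 / 2 := by
    rw [div_lt_iff₀ (mul_pos h1 h3)]
    linarith [lt_of_le_of_lt hF hlt]
  have t1 : 1 / (2 * h ^ 2) ^ 2 ≤ 1 / 64 := by
    rw [div_le_div_iff₀ (by positivity) (by norm_num)]
    have h8 : 8 ≤ 2 * h ^ 2 := by nlinarith
    nlinarith [mul_le_mul h8 h8 (by norm_num) (by linarith)]
  have t2 : 2 / (h * (2 * h ^ 2 - 1)) ≤ 1 / 7 := by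
    rw [div_le_div_iff₀ (by positivity) (by norm_num)]
    nlinarith [mul_pos (by linarith : (0:ℝ) < h) h1]
  linarith

end CaseA

end Cfsg.Agent.Lib.Helper41.SzCov
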