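import Mathlib
import Cfsg.Agent.Lib.Helper6.SzCh.Asm
import Cfsg.Agent.Lib.Helper41.SzCov.Defs
import Cfsg.Agent.Lib.Helper41.SzCov.Core
import Cfsg.Agent.Lib.Helper83.SzCovCuspTypes

/-!
# SZCOV: the list of the cuspidal characters of a group with Suzuki data
-/

set_option autoImplicit false

namespace Cfsg.Agent.Lib.Helper41.SzCov

open Cfsg Cfsg.Agent.Lib.Helper6.SzCh Cfsg.Agent.Lib.Helper78
open Cfsg.Agent.Lib.Helper83.SzCov
open scoped ComplexConjugate Classical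

universe u

variable {G : Type u} [Group G]

/-- the cuspidal characters by the multiplicities `(pa, pb, pc)` of `φ, ψ₁, ψ₂` in their restriction to `B` -/
theorem cusp_table [Fintype G] (D : SzData G) [Fintype ↥D.B] (T : BTable D) :
    ∃ (W₁ W₂ : IrrCharacter G) (Y₁ Y₂ : Finset (IrrCharacter G)),
      (∀ χ : IrrCharacter G, IsCusp D χ.1 ↔ χ = W₁ ∨ χ = W₂ ∨ χ ∈ Y₁ ∨ χ ∈ Y₂) ∧
      Y₁.card * 4 = D.q + D.r ∧ Y₂.card * 4 + D.r = D.q ∧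
      (T.pa W₁.1 = 0 ∧ T.pb W₁.1 = 1 ∧ T.pc W₁.1 = 0) ∧
      (T.pa W₂.1 = 0 ∧ T.pb W₂.1 = 0 ∧ T.pc W₂.1 = 1) ∧
      (∀ χ ∈ Y₁, T.pa χ.1 = 1 ∧ T.pb χ.1 + 1 = D.h ∧ T.pc χ.1 + 1 = D.h) ∧
      (∀ χ ∈ Y₂, T.pa χ.1 = 1 ∧ T.pb χ.1 = D.h + 1 ∧ T.pc χ.1 = D.h + 1) := by
  obtain ⟨hall, -, -, -⟩ := cusp_params D T
  obtain ⟨s1, s2, s3, s4, s5, s6⟩ := cusp_sums D T
  have hq := q_eq D
  have hr := r_eq D
  have hh := two_le_h D
  have hdeg : ∀ i : Cusp D, T.pa i.1.1 + D.h * (T.pb i.1.1 + T.pc i.1.1) = D.h ∨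
      T.pa i.1.1 + D.h * (T.pb i.1.1 + T.pc i.1.1) + 2 * D.h = 2 * D.h ^ 2 + 1 ∨
      T.pa i.1.1 + D.h * (T.pb i.1.1 + T.pc i.1.1) = 2 * D.h ^ 2 + 2 * D.h + 1 := by
    intro i
    have hle : 2 * D.h ≤ 2 * D.h ^ 2 + 1 := by nlinarith
    rcases hall i with h | h | h
    · left; exact h
    · right; left; rw [h, hq, hr]; omega
    · right; right; rw [h, hq, hr]
  obtain ⟨w₁, w₂, Y₁', Y₂', hw₁, hw₂, hY₁, hY₂, hcov, -, -, hc₁, hc₂⟩ :=
    cusp_types D.h hh (fun i : Cusp D => T.pa i.1.1) (fun i => T.pb i.1.1) (fun i => T.pc i.1.1)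
      hdeg s1 s2 s3 s4 s5 s6
  refine ⟨w₁.1, w₂.1, Y₁'.map (Function.Embedding.subtype _), Y₂'.map (Function.Embedding.subtype _),
    ?_, ?_, ?_, hw₁, hw₂, ?_, ?_⟩
  · intro χ
    constructor
    · intro hc
      rcases hcov ⟨χ, hc⟩ with h | h | h | h
      · left; rw [← h]
      · right; left; rw [← h]
      · right; right; left
        exact Finset.mem_map.mpr ⟨⟨χ, hc⟩, h, rfl⟩
      · right; right; right
        exact Finset.mem_map.mpr ⟨⟨χ, hc⟩, h, rfl⟩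
    · rintro (h | h | h | h)
      · rw [h]; exact w₁.2
      · rw [h]; exact w₂.2
      · obtain ⟨i, -, rfl⟩ := Finset.mem_map.mp h
        exact i.2
      · obtain ⟨i, -, rfl⟩ := Finset.mem_map.mp h
        exact i.2
  · rw [Finset.card_map, hq, hr]; nlinarith
  · rw [Finset.card_map, hq, hr]; nlinarith
  · intro χ h
    obtain ⟨i, hi, rfl⟩ := Finset.mem_map.mp h
    exact hY₁ i hi
  · intro χ h
    obtain ⟨i, hi, rfl⟩ := Finset.mem_map.mp h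
    exact hY₂ i hi

end Cfsg.Agent.Lib.Helper41.SzCov
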