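import Mathlib
import Cfsg.Agent.Lib.Helper6.SzCh.Asm
import Cfsg.Agent.Lib.Helper41.SzCov.Defs
import Cfsg.Agent.Lib.Helper41.SzCov.Core

/-!
# SZCOV: the values on `B` of a cuspidal character with given multiplicities
-/

set_option autoImplicit false

namespace Cfsg.Agent.Lib.Helper41.SzCov

open Cfsg Cfsg.Agent.Lib.Helper6.SzCh Cfsg.Agent.Lib.Helper78
open Cfsg.Agent.Lib.Helper25.SzCh Cfsg.Agent.Lib.Helper45.SzCh
open scoped ComplexConjugate Classical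

universe u

variable {G : Type u} [Group G]

theorem cusp_vals [Fintype G] (D : SzData G) [Fintype ↥D.B] (T : BTable D) {χ : IrrCharacter G}
    (hc : IsCusp D χ.1) (a b c : ℂ) (ha : (T.pa χ.1 : ℂ) = a) (hb : (T.pb χ.1 : ℂ) = b)
    (hcc : (T.pc χ.1 : ℂ) = c) :
    (χ : G → ℂ) 1 = ((D.q : ℂ) - 1) * (a + (D.h : ℂ) * (b + c)) ∧
    (∀ t ∈ D.Z, t ≠ 1 → (χ : G → ℂ) t = a * ((D.q : ℂ) - 1) - (D.h : ℂ) * (b + c)) ∧
    (∀ x (hx : x ∈ D.Q), x ∉ D.Z → (χ : G → ℂ) x = -a + (b - c) * T.ψ₁ ⟨x, Q_le_B D hx⟩) ∧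
    (∀ k ∈ D.K, k ≠ 1 → (χ : G → ℂ) k = 0) := by
  have hres := cusp_res D T χ.2 hc
  rw [ha, hb, hcc] at hres
  refine ⟨?_, ?_, ?_, ?_⟩
  · have h := hres 1
    rw [Subgroup.coe_one, cval_φ_one, T.ψ₁_one, T.ψ₂_one] at h
    rw [h]; ring
  · intro t ht ht1
    have htB : t ∈ D.B := Q_le_B D (Z_le_Q D ht)
    have hne : (⟨t, htB⟩ : ↥D.B) ≠ 1 := fun h => ht1 (congrArg Subtype.val h)
    have h := hres ⟨t, htB⟩
    rw [T.φ_Z ⟨t, htB⟩ ht, T.ψ₁_Z ⟨t, htB⟩ ht hne, T.ψ₂_Z ⟨t, htB⟩ ht hne] at h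
    have h' : (χ : G → ℂ) t = _ := h
    rw [h']; ring
  · intro x hx hxZ
    have h := hres ⟨x, Q_le_B D hx⟩
    rw [T.φ_QZ ⟨x, Q_le_B D hx⟩ hx hxZ, T.ψ_neg ⟨x, Q_le_B D hx⟩ hx hxZ] at h
    have h' : (χ : G → ℂ) x = _ := h
    rw [h']; ring
  · intro k hk hk1
    have hkB : k ∈ D.B := D.K_le hk
    have hkQ : k ∉ D.Q := fun hQ => hk1 (eq_one_of_mem_Q_K D hQ hk)
    have h := hres ⟨k, hkB⟩
    rw [T.φ_off ⟨k, hkB⟩ hkQ, T.ψ₁_off ⟨k, hkB⟩ hkQ, T.ψ₂_off ⟨k, hkB⟩ hkQ] at h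
    have h' : (χ : G → ℂ) k = _ := h
    rw [h']; ring

/-- the degree as a natural number -/
theorem cusp_deg [Fintype G] (D : SzData G) [Fintype ↥D.B] (T : BTable D) {χ : IrrCharacter G}
    (hc : IsCusp D χ.1) : (charDegree (χ : G → ℂ) : ℤ) =
      (2 * (D.h : ℤ) ^ 2 - 1) * ((T.pa χ.1 : ℤ) + (D.h : ℤ) * ((T.pb χ.1 : ℤ) + (T.pc χ.1 : ℤ))) := by
  have h := cusp_degree D T χ.2 hc
  have hq := q_eq D
  have h1 : 1 ≤ D.q := by have := two_le_h D; rw [hq]; nlinarith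
  rw [h]
  push_cast [Nat.cast_sub h1]
  rw [hq]; push_cast; ring

end Cfsg.Agent.Lib.Helper41.SzCov
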