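import Mathlib
import Cfsg.Agent.Lib.Helper41.SzCov.CaseA

/-!
# SZCOV main theorem (abstract form): given the character table `SzTable D`, every `g ≠ 1` is a product
of two conjugates of any `x` of order `> 2`.
-/

set_option autoImplicit false

namespace Cfsg.Agent.Lib.Helper41.SzCov

open Cfsg Cfsg.Agent.Lib.Helper6.SzCh Cfsg.Agent.Lib.Helper78
open scoped ComplexConjugate Classical

universe u

variable {G : Type u} [Group G]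

/-- the type of a non-identity element conjugated into `Q ∪ K ∪ A₁ ∪ A₂` -/
inductive ElemType (D : SzData G) (g : G) : Prop
  | Z : g ∈ D.Z → g ≠ 1 → ElemType D g
  | QZ : g ∈ D.Q → g ∉ D.Z → ElemType D g
  | K : g ∈ D.K → g ≠ 1 → ElemType D g
  | A₁ : g ∈ D.A₁ → g ≠ 1 → ElemType D g
  | A₂ : g ∈ D.A₂ → g ≠ 1 → ElemType D g

theorem exists_conj_elemType (D : SzData G) {g : G} (hg : g ≠ 1) :
    ∃ c : G, ElemType D (c * g * c⁻¹) := by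
  obtain ⟨c, hc⟩ := D.cover g
  refine ⟨c, ?_⟩
  have hne : c * g * c⁻¹ ≠ 1 := by
    intro h
    apply hg
    have : g = c⁻¹ * (c * g * c⁻¹) * c := by group
    rw [this, h]; group
  rcases hc with h | h | h | h
  · by_cases hZ : c * g * c⁻¹ ∈ D.Z
    · exact ElemType.Z hZ hne
    · exact ElemType.QZ h hZ
  · exact ElemType.K h hne
  · exact ElemType.A₁ h hne
  · exact ElemType.A₂ h hne

theorem not_mem_Z_of_order {D : SzData G} {x : G} (hx : 2 < orderOf x) : x ∉ D.Z := by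
  intro h
  have h2 : x * x = 1 := D.Z_sq x h.1 h.2
  have : orderOf x ∣ 2 := orderOf_dvd_of_pow_eq_one (by rw [pow_two]; exact h2)
  have := Nat.le_of_dvd (by norm_num) this
  omega

theorem nSum_ne_zero_of_types [Fintype G] {D : SzData G} (T : SzTable D) {x g : G}
    (hx : ElemType D x) (hxo : 2 < orderOf x) (hg : ElemType D g) : nSum x g ≠ 0 := by
  have hxZ : x ∉ D.Z := not_mem_Z_of_order hxo
  rcases hx with ⟨h, _⟩ | ⟨hxQ, _⟩ | ⟨hxK, hx1⟩ | ⟨hxA, hx1⟩ | ⟨hxA, hx1⟩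
  · exact absurd h hxZ
  · rcases hg with ⟨hgZ, hg1⟩ | ⟨hgQ, hgZ⟩ | ⟨hgK, hg1⟩ | ⟨hgA, hg1⟩ | ⟨hgA, hg1⟩
    · exact nSum_QZ_Z T hxQ hxZ hgZ hg1
    · exact nSum_QZ_QZ T hxQ hxZ hgQ hgZ
    · exact nSum_QZ_K T hxQ hxZ hgK hg1
    · exact nSum_QZ_A₁ T hxQ hxZ hgA hg1
    · exact nSum_QZ_A₂ T hxQ hxZ hgA hg1
  · rcases hg with ⟨hgZ, hg1⟩ | ⟨hgQ, hgZ⟩ | ⟨hgK, hg1⟩ | ⟨hgA, hg1⟩ | ⟨hgA, hg1⟩
    · exact nSum_K_Q T hxK hx1 hgZ.1 hg1
    · exact nSum_K_Q T hxK hx1 hgQ (fun h => hgZ (h ▸ D.Z.one_mem))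
    · exact nSum_K_K T hxK hx1 hgK hg1
    · exact nSum_K_A T hxK hx1 (T.St_A₁ g hgA hg1) (fun χ hχ => T.L_A₁ χ hχ g hgA hg1)
    · exact nSum_K_A T hxK hx1 (T.St_A₂ g hgA hg1) (fun χ hχ => T.L_A₂ χ hχ g hgA hg1)
  · rcases hg with ⟨hgZ, hg1⟩ | ⟨hgQ, hgZ⟩ | ⟨hgK, hg1⟩ | ⟨hgA, hg1⟩ | ⟨hgA, hg1⟩
    · exact nSum_A₁_Z T hxA hx1 hgZ hg1
    · exact nSum_A₁_QZ T hxA hx1 hgQ hgZ
    · exact nSum_A₁_K T hxA hx1 hgK hg1
    · exact nSum_A₁_A₁ T hxA hx1 hgA hg1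
    · exact nSum_A₁_A₂ T hxA hx1 hgA hg1
  · rcases hg with ⟨hgZ, hg1⟩ | ⟨hgQ, hgZ⟩ | ⟨hgK, hg1⟩ | ⟨hgA, hg1⟩ | ⟨hgA, hg1⟩
    · exact nSum_A₂_Z T hxA hx1 hgZ hg1
    · exact nSum_A₂_QZ T hxA hx1 hgQ hgZ
    · exact nSum_A₂_K T hxA hx1 hgK hg1
    · exact nSum_A₂_A₁ T hxA hx1 hgA hg1
    · exact nSum_A₂_A₂ T hxA hx1 hgA hg1

/-- **The covering theorem for groups with Suzuki data and the Suzuki character table.** -/
theorem cover_of_table [Fintype G] (D : SzData G) (T : SzTable D) (x : G) (hx : 2 < orderOf x)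
    (g : G) (hg : g ≠ 1) : ∃ u v : G, g = (u * x * u⁻¹) * (v * x * v⁻¹) := by
  have hx1 : x ≠ 1 := by
    intro h; rw [h, orderOf_one] at hx; omega
  obtain ⟨c, hc⟩ := exists_conj_elemType D hx1
  obtain ⟨d, hd⟩ := exists_conj_elemType D hg
  have hco : 2 < orderOf (c * x * c⁻¹) := by
    have := (MulAut.conj c).orderOf_eq x
    rw [MulAut.conj_apply] at this
    rw [this]; exact hx
  obtain ⟨u, v, huv⟩ := exists_conj_mul_conj_of_nSum_ne_zero (nSum_ne_zero_of_types T hc hco hd)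
  refine ⟨d⁻¹ * u * c, d⁻¹ * v * c, ?_⟩
  have : g = d⁻¹ * (d * g * d⁻¹) * d := by group
  rw [this, huv]
  group

end Cfsg.Agent.Lib.Helper41.SzCov
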