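import Mathlib
import Cfsg.Agent.Lib.Helper6.SzCh.Asm
import Cfsg.Agent.Lib.Helper41.SzCov.Defs
import Cfsg.Agent.Lib.Helper41.SzCov.TorusVal

/-!
# SZCOV-[TORUS-5]: the torus of order 5 (`A₂` in `Sz(8)`), where `exc_TI` does not apply
-/

set_option autoImplicit false

namespace Cfsg.Agent.Lib.Helper41.SzCov

open Cfsg Cfsg.Agent.Lib.Helper6.SzCh Cfsg.Agent.Lib.Helper78
open scoped ComplexConjugate Classical

universe u

variable {G : Type u} [Group G]

/-- the sum of a character over a subgroup is a multiple of the order -/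
theorem sum_subgroup_eq [Fintype G] (A : Subgroup G) {χ : G → ℂ} (hχ : IsCharacter G χ) :
    ∃ n : ℕ, ∑ a : ↥A, χ (a : G) = (Nat.card A : ℂ) * n := by
  have hres := Cfsg.Agent.Lib.Helper80.isCharacter_restrict A hχ
  obtain ⟨n, hn⟩ := IsCharacter.exists_nat_classInner hres ⟨fun _ => 1, isIrrCharacter_one⟩
  unfold classInner at hn
  have hApos : (Nat.card A : ℂ) ≠ 0 := by
    have : 0 < Nat.card A := Nat.card_pos
    exact_mod_cast this.ne'
  refine ⟨n, ?_⟩
  have h1 : ∑ a : ↥A, χ (a : G) * conj ((1 : ℂ)) = ∑ a : ↥A, χ (a : G) := by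
    apply Finset.sum_congr rfl
    intro a _
    simp
  rw [← h1]
  field_simp at hn
  linear_combination hn

/-- if `|N(A)| = 4 |A|`, `|A| = 5` and `C(y) = A` for `y ∈ A ∖ 1`, all elements of `A ∖ 1` are conjugate -/
theorem conj_of_five [Finite G] (A : Subgroup G)
    (hcent : ∀ a ∈ A, a ≠ 1 → Subgroup.centralizer ({a} : Set G) = A)
    (hnorm : Nat.card ↥(Subgroup.normalizer (A : Set G)) = 4 * Nat.card A)
    (h5 : Nat.card A = 5) {y y' : G} (hy : y ∈ A) (hy1 : y ≠ 1) (hy' : y' ∈ A) (hy'1 : y' ≠ 1) :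
    ∃ n : G, n * y * n⁻¹ = y' := by
  have hAN : A ≤ Subgroup.normalizer (A : Set G) := Subgroup.le_normalizer
  obtain ⟨b, hb⟩ : ∃ b : ↥(Subgroup.normalizer (A : Set G)), b = ⟨y, hAN hy⟩ := ⟨_, rfl⟩
  have hbv : (b : G) = y := by rw [hb]
  have hcb : Nat.card ↥(Subgroup.centralizer ({b} : Set ↥(Subgroup.normalizer (A : Set G)))) = 5 := by
    rw [Cfsg.Agent.Lib.Helper45.SzCh.card_centralizer_subgroup _ b (by rw [hbv, hcent y hy hy1]; exact hAN),
      hbv, hcent y hy hy1, h5]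
  have hcls := Cfsg.Agent.Lib.Helper45.SzCh.card_conjRange_mul_card_centralizer b
  rw [hcb, hnorm, h5] at hcls
  have hS : (Set.range fun n : ↥(Subgroup.normalizer (A : Set G)) => n * b * n⁻¹).ncard = 4 := by
    rw [← Nat.card_coe_set_eq]; omega
  -- the target set
  obtain ⟨T, hT⟩ : ∃ T : Set ↥(Subgroup.normalizer (A : Set G)), T = {a : ↥(Subgroup.normalizer (A : Set G)) | (a : G) ∈ A ∧ (a : G) ≠ 1} := ⟨_, rfl⟩
  have hST : (Set.range fun n : ↥(Subgroup.normalizer (A : Set G)) => n * b * n⁻¹) ⊆ T := by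
    rintro _ ⟨n, rfl⟩
    rw [hT]
    refine ⟨?_, ?_⟩
    · show (n : G) * (b : G) * (n : G)⁻¹ ∈ A
      rw [hbv]
      have := n.2
      rw [Subgroup.mem_normalizer_iff] at this
      exact (this y).mp hy
    · show (n : G) * (b : G) * (n : G)⁻¹ ≠ 1
      rw [hbv]
      intro h
      apply hy1
      have : y = (n : G)⁻¹ * ((n : G) * y * (n : G)⁻¹) * (n : G) := by group
      rw [this, h]; group
  have hTcard : T.ncard = 4 := by
    have himg : T = (fun a : ↥A => (⟨(a : G), hAN a.2⟩ : ↥(Subgroup.normalizer (A : Set G)))) ''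
        ((Set.univ : Set ↥A) \ {1}) := by
      rw [hT]
      ext a
      simp only [Set.mem_ofPred_eq, Set.mem_image, Set.mem_sdiff, Set.mem_univ, true_and,
        Set.mem_singleton_iff]
      constructor
      · rintro ⟨h1, h2⟩
        exact ⟨⟨(a : G), h1⟩, fun h => h2 (congrArg Subtype.val h), Subtype.ext rfl⟩
      · rintro ⟨c, hc1, rfl⟩
        exact ⟨c.2, fun h => hc1 (Subtype.ext h)⟩
    rw [himg, Set.ncard_image_of_injective _ (fun a c h => Subtype.ext (by
      have := congrArg (fun z : ↥(Subgroup.normalizer (A : Set G)) => (z : G)) h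
      exact this)),
      Set.ncard_sdiff_singleton_of_mem (Set.mem_univ _), Set.ncard_univ, h5]
  have hfin : T.Finite := Set.toFinite T
  have heq := Set.eq_of_subset_of_ncard_le hST (by rw [hS, hTcard]) hfin
  have hmem : (⟨y', hAN hy'⟩ : ↥(Subgroup.normalizer (A : Set G))) ∈ T := by
    rw [hT]; exact ⟨hy', hy'1⟩
  rw [← heq] at hmem
  obtain ⟨n, hn⟩ := hmem
  refine ⟨(n : G), ?_⟩
  have := congrArg (fun z : ↥(Subgroup.normalizer (A : Set G)) => (z : G)) hn
  simp only [Subgroup.coe_mul, Subgroup.coe_inv] at this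
  rw [hbv] at this
  exact this

/-- every irreducible character is a constant integer on `A ∖ 1` -/
theorem const_int_of_five [Fintype G] (A : Subgroup G)
    (hcent : ∀ a ∈ A, a ≠ 1 → Subgroup.centralizer ({a} : Set G) = A)
    (hnorm : Nat.card ↥(Subgroup.normalizer (A : Set G)) = 4 * Nat.card A)
    (h5 : Nat.card A = 5) (χ : IrrCharacter G) :
    ∃ v : ℤ, ∀ y ∈ A, y ≠ 1 → (χ : G → ℂ) y = (v : ℂ) := by
  have hχ := IsIrrCharacter.isCharacter χ.2
  -- some non-identity element of `A`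
  obtain ⟨y₀, hy₀A, hy₀1⟩ : ∃ y ∈ A, y ≠ 1 := by
    by_contra hcon
    push Not at hcon
    have : A = ⊥ := by
      rw [Subgroup.eq_bot_iff_forall]
      exact hcon
    rw [this, Subgroup.card_bot] at h5
    omega
  have hconst : ∀ y ∈ A, y ≠ 1 → (χ : G → ℂ) y = (χ : G → ℂ) y₀ := by
    intro y hy hy1
    obtain ⟨n, hn⟩ := conj_of_five A hcent hnorm h5 hy₀A hy₀1 hy hy1
    rw [← hn]
    exact IsCharacter.isClassFunction hχ y₀ n
  obtain ⟨n, hn⟩ := sum_subgroup_eq A hχ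
  have hsplit := Finset.add_sum_erase Finset.univ (fun a : ↥A => (χ : G → ℂ) (a : G)) (Finset.mem_univ (1 : ↥A))
  have hrest : ∑ a ∈ (Finset.univ : Finset ↥A).erase 1, (χ : G → ℂ) (a : G) = 4 * (χ : G → ℂ) y₀ := by
    have : ∀ a ∈ (Finset.univ : Finset ↥A).erase 1, (χ : G → ℂ) (a : G) = (χ : G → ℂ) y₀ := by
      intro a ha
      have hne : a ≠ 1 := (Finset.mem_erase.mp ha).1
      exact hconst a a.2 (fun h => hne (Subtype.ext h))
    rw [Finset.sum_congr rfl this, Finset.sum_const, Finset.card_erase_of_mem (Finset.mem_univ _),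
      Finset.card_univ, ← Nat.card_eq_fintype_card, h5, nsmul_eq_mul]
    norm_num
  have hone : (χ : G → ℂ) ((1 : ↥A) : G) = (charDegree (χ : G → ℂ) : ℂ) := by
    rw [Subgroup.coe_one]
    exact IsCharacter.apply_one_eq_charDegree hχ
  rw [hrest, hone, hn, h5] at hsplit
  -- `χ y₀ + χ 1 = (5 n + 3 χ 1) / 4`
  have hval : (χ : G → ℂ) y₀ + (charDegree (χ : G → ℂ) : ℂ) =
      ((5 * n + 3 * charDegree (χ : G → ℂ) : ℕ) : ℂ) / ((4 : ℕ) : ℂ) := by
    push_cast
    field_simp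
    linear_combination hsplit
  have hint : IsIntegral ℤ ((χ : G → ℂ) y₀ + (charDegree (χ : G → ℂ) : ℂ)) :=
    IsIntegral.add (IsCharacter.isIntegral hχ y₀) (isIntegral_natCast _)
  rw [hval] at hint
  obtain ⟨k, hk⟩ := Cfsg.Agent.Lib.Helper79.dvd_of_isIntegral_div (by norm_num) hint
  refine ⟨(k : ℤ) - charDegree (χ : G → ℂ), ?_⟩
  intro y hy hy1
  rw [hconst y hy hy1]
  have : (χ : G → ℂ) y₀ = ((5 * n + 3 * charDegree (χ : G → ℂ) : ℕ) : ℂ) / ((4 : ℕ) : ℂ) -
      (charDegree (χ : G → ℂ) : ℂ) := by rw [← hval]; ring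
  rw [this, hk]
  push_cast
  ring

/-- SZCOV-[TORUS-5] -/
theorem torus_val_five [Fintype G] (A : Subgroup G)
    (hcent : ∀ a ∈ A, a ≠ 1 → Subgroup.centralizer ({a} : Set G) = A)
    (hnorm : Nat.card ↥(Subgroup.normalizer (A : Set G)) = 4 * Nat.card A)
    (h5 : Nat.card A = 5) (χ : IrrCharacter G) :
    ∃ v : ℤ, (∀ y ∈ A, y ≠ 1 → (χ : G → ℂ) y = (v : ℂ)) ∧
        |v| ≤ 2 ∧ (5 : ℤ) ∣ (charDegree (χ : G → ℂ) : ℤ) - v := by
  choose v hv using const_int_of_five A hcent hnorm h5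
  refine ⟨v χ, hv χ, ?_, ?_⟩
  · obtain ⟨y₀, hy₀A, hy₀1⟩ : ∃ y ∈ A, y ≠ 1 := by
      by_contra hcon
      push Not at hcon
      have : A = ⊥ := by
        rw [Subgroup.eq_bot_iff_forall]
        exact hcon
      rw [this, Subgroup.card_bot] at h5
      omega
    have horth := second_orthogonality_of_isConj (IsConj.refl y₀)
    rw [hcent y₀ hy₀A hy₀1, h5] at horth
    have hterm : ∀ χ' : IrrCharacter G, (χ' : G → ℂ) y₀ * conj ((χ' : G → ℂ) y₀) = ((v χ' ^ 2 : ℤ) : ℂ) := by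
      intro χ'
      rw [hv χ' y₀ hy₀A hy₀1]
      rw [map_intCast]
      push_cast; ring
    rw [Finset.sum_congr rfl (fun χ' _ => hterm χ')] at horth
    have hsumZ : ∑ χ' : IrrCharacter G, v χ' ^ 2 = 5 := by
      have : ((∑ χ' : IrrCharacter G, v χ' ^ 2 : ℤ) : ℂ) = ((5 : ℤ) : ℂ) := by
        push_cast
        push_cast at horth
        exact horth
      exact_mod_cast this
    have hv0 : v (trivIrr G) = 1 := by
      have h := hv (trivIrr G) y₀ hy₀A hy₀1
      have h' : (1 : ℂ) = (v (trivIrr G) : ℂ) := h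
      exact_mod_cast h'.symm
    by_cases hχ0 : χ = trivIrr G
    · rw [hχ0, hv0]; norm_num
    · have hsplit := Finset.add_sum_erase Finset.univ (fun χ' : IrrCharacter G => v χ' ^ 2)
        (Finset.mem_univ (trivIrr G))
      have hmemχ : χ ∈ (Finset.univ : Finset (IrrCharacter G)).erase (trivIrr G) := by
        simp [hχ0]
      have hle : v χ ^ 2 ≤ ∑ χ' ∈ (Finset.univ : Finset (IrrCharacter G)).erase (trivIrr G), v χ' ^ 2 :=
        Finset.single_le_sum (f := fun χ' => v χ' ^ 2) (fun i _ => sq_nonneg _) hmemχ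
      simp only [hv0] at hsplit
      have h3 : v χ ^ 2 ≤ 4 := by linarith
      exact abs_le.mpr ⟨by nlinarith, by nlinarith⟩
  · have := dvd_degree_sub_of_const A (IsIrrCharacter.isCharacter χ.2) (v χ) (hv χ)
    rw [h5] at this
    exact_mod_cast this

end Cfsg.Agent.Lib.Helper41.SzCov
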