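import Mathlib
import Cfsg.Agent.Lib.Helper6.SzCh.Asm
import Cfsg.Agent.Lib.Helper41.SzCov.Defs
import Cfsg.Agent.Lib.Helper41.SzCov.TorusVal
import Cfsg.Agent.Lib.Helper41.SzCov.TorusFive

/-!
# SZCOV: values on the tori `A₁`, `A₂` of the characters outside the exceptional families
-/

set_option autoImplicit false

namespace Cfsg.Agent.Lib.Helper41.SzCov

open Cfsg Cfsg.Agent.Lib.Helper6.SzCh Cfsg.Agent.Lib.Helper78
open scoped ComplexConjugate Classical

universe u

variable {G : Type u} [Group G]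

/-- the property of a family `E` of characters that the others are small constant integers on `A ∖ 1` -/
def TorusProp [Fintype G] (A : Subgroup G) (E : Finset (IrrCharacter G)) : Prop :=
  ∀ χ : IrrCharacter G, χ ∉ E → ∃ v : ℤ, (∀ y ∈ A, y ≠ 1 → (χ : G → ℂ) y = (v : ℂ)) ∧
    |v| ≤ 2 ∧ (Nat.card A : ℤ) ∣ (charDegree (χ : G → ℂ) : ℤ) - v

theorem torus_all [Fintype G] (A : Subgroup G)
    (hcent : ∀ a ∈ A, a ≠ 1 → Subgroup.centralizer ({a} : Set G) = A)
    (hnorm : Nat.card ↥(Subgroup.normalizer (A : Set G)) = 4 * Nat.card A)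
    (hA : 5 ≤ Nat.card A) :
    ∃ E : Finset (IrrCharacter G), (5 < Nat.card A → E.card * 4 + 1 = Nat.card A) ∧
      (Nat.card A = 5 → E = ∅) ∧ TorusProp A E := by
  rcases Nat.lt_or_ge 5 (Nat.card A) with hbig | hle
  · obtain ⟨E, hcard, hE⟩ := torus_val A hcent hnorm hbig
    exact ⟨E, fun _ => hcard, fun h => by omega, hE⟩
  · have h5 : Nat.card A = 5 := by omega
    refine ⟨∅, fun h => by omega, fun _ => rfl, ?_⟩
    intro χ _
    obtain ⟨v, h1, h2, h3⟩ := torus_val_five A hcent hnorm h5 χ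
    refine ⟨v, h1, h2, ?_⟩
    rw [h5]
    exact_mod_cast h3

/-- a character outside `E` whose degree is congruent to the small integer `c` takes the value `c` on `A ∖ 1` -/
theorem torus_pin [Fintype G] {A : Subgroup G} {E : Finset (IrrCharacter G)} (hE : TorusProp A E)
    (hA : 5 ≤ Nat.card A) {χ : IrrCharacter G} (hχ : χ ∉ E) (c : ℤ) (hc : |c| ≤ 2)
    (hdvd : (Nat.card A : ℤ) ∣ (charDegree (χ : G → ℂ) : ℤ) - c) :
    ∀ y ∈ A, y ≠ 1 → (χ : G → ℂ) y = (c : ℂ) := by
  obtain ⟨v, hv, hv2, hvd⟩ := hE χ hχ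
  have h1 : (Nat.card A : ℤ) ∣ v - c := by
    have := dvd_sub hdvd hvd
    have e : (charDegree (χ : G → ℂ) : ℤ) - c - ((charDegree (χ : G → ℂ) : ℤ) - v) = v - c := by ring
    rwa [e] at this
  have h2 : |v - c| < (Nat.card A : ℤ) := by
    have h5 : (5 : ℤ) ≤ (Nat.card A : ℤ) := by exact_mod_cast hA
    have := abs_sub v c
    have h3 : |v - c| ≤ |v| + |c| := abs_sub v c
    linarith
  have h3 := Int.eq_zero_of_abs_lt_dvd h1 h2
  have hvc : v = c := by linarith
  intro y hy hy1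
  rw [hv y hy hy1, hvc]

/-- a family `Y` of characters of degree `≡ -4` of the right size contains `E` -/
theorem torus_E_sub [Fintype G] {A : Subgroup G} {E Y : Finset (IrrCharacter G)}
    (hbig : 5 < Nat.card A → E.card * 4 + 1 = Nat.card A) (h5 : Nat.card A = 5 → E = ∅)
    (hE : TorusProp A E) (hA : 5 ≤ Nat.card A)
    (hY : ∀ χ ∈ Y, (Nat.card A : ℤ) ∣ (charDegree (χ : G → ℂ) : ℤ) + 4)
    (hcard : Y.card * 4 + 1 = Nat.card A) : E ⊆ Y := by
  rcases Nat.lt_or_ge 5 (Nat.card A) with hb | hle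
  · have hEc := hbig hb
    have hsub : Y ⊆ E := by
      intro χ hχ
      by_contra hne
      obtain ⟨v, -, hv2, hvd⟩ := hE χ hne
      have h1 : (Nat.card A : ℤ) ∣ v + 4 := by
        have := dvd_sub (hY χ hχ) hvd
        have e : (charDegree (χ : G → ℂ) : ℤ) + 4 - ((charDegree (χ : G → ℂ) : ℤ) - v) = v + 4 := by ring
        rwa [e] at this
      have hv := abs_le.mp hv2
      have h2 : (Nat.card A : ℤ) ≤ v + 4 := Int.le_of_dvd (by linarith [hv.1]) h1
      have h3 : (9 : ℤ) ≤ (Nat.card A : ℤ) := by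
        have : 9 ≤ Nat.card A := by omega
        exact_mod_cast this
      linarith [hv.2]
    have : Y = E := Finset.eq_of_subset_of_card_le hsub (by omega)
    rw [this]
  · have : Nat.card A = 5 := by omega
    rw [h5 this]
    exact Finset.empty_subset _

end Cfsg.Agent.Lib.Helper41.SzCov
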