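import Mathlib
import Cfsg.Agent.Lib.Helper6.SzCh.Asm
import Cfsg.Agent.Lib.Helper41.SzCov.Defs
import Cfsg.Agent.Lib.Helper41.SzCov.Core
import Cfsg.Agent.Lib.Helper41.SzCov.Torus
import Cfsg.Agent.Lib.Helper41.SzCov.CuspTab
import Cfsg.Agent.Lib.Helper41.SzCov.CuspVal
import Cfsg.Agent.Lib.Helper1.SzCovNcValues

/-!
# SZCOV: the character table `SzTable D` of a group with Suzuki data
-/

set_option autoImplicit false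
set_option maxHeartbeats 1000000

namespace Cfsg.Agent.Lib.Helper41.SzCov

open Cfsg Cfsg.Agent.Lib.Helper6.SzCh Cfsg.Agent.Lib.Helper78
open Cfsg.Agent.Lib.Helper73.SzCh
open Cfsg.Agent.Lib.Helper1.SzCov
open scoped ComplexConjugate Classical

universe u

variable {G : Type u} [Group G]

theorem card_A₁_int' (D : SzData G) : (Nat.card D.A₁ : ℤ) = 2 * (D.h : ℤ) ^ 2 + 2 * (D.h : ℤ) + 1 := by
  have h := D.card_A₁
  have hq : qOf D.m = 2 * D.h ^ 2 := q_eq D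
  have hr : rOf D.m = 2 * D.h := r_eq D
  rw [h, hq, hr]; push_cast; ring

theorem card_A₂_int' (D : SzData G) : (Nat.card D.A₂ : ℤ) = 2 * (D.h : ℤ) ^ 2 - 2 * (D.h : ℤ) + 1 := by
  have h := D.card_A₂
  have hq : qOf D.m = 2 * D.h ^ 2 := q_eq D
  have hr : rOf D.m = 2 * D.h := r_eq D
  rw [hq, hr] at h
  have : (Nat.card D.A₂ : ℤ) + 2 * (D.h : ℤ) = 2 * (D.h : ℤ) ^ 2 + 1 := by exact_mod_cast h
  linarith

theorem nonempty_szTable [Fintype G] (D : SzData G) : Nonempty (SzTable D) := by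
  have : Fintype ↥D.B := Fintype.ofFinite _
  obtain ⟨T⟩ := exists_bTable D
  obtain ⟨W₁, W₂, Y₁, Y₂, hcl, hcY₁, hcY₂, hW₁, hW₂, hY₁, hY₂⟩ := cusp_table D T
  obtain ⟨St, L, hcL, hncl, hSt1, h1L, hStL, St_one, St_Q, St_K, St_A₁, St_A₂, L_one, L_Q, L_A₁, L_A₂⟩ :=
    nc_table D
  have hh := two_le_h D
  have hq := q_eq D
  have hr := r_eq D
  have hhZ : (2 : ℤ) ≤ (D.h : ℤ) := by exact_mod_cast hh
  have hqC : (D.q : ℂ) = 2 * (D.h : ℂ) ^ 2 := by rw [hq]; push_cast; ring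
  have hrC : (D.r : ℂ) = 2 * (D.h : ℂ) := by rw [hr]; push_cast; ring
  -- cuspidality
  have cW₁ : IsCusp D W₁.1 := (hcl W₁).mpr (Or.inl rfl)
  have cW₂ : IsCusp D W₂.1 := (hcl W₂).mpr (Or.inr (Or.inl rfl))
  have cY₁ : ∀ χ ∈ Y₁, IsCusp D χ.1 := fun χ h => (hcl χ).mpr (Or.inr (Or.inr (Or.inl h)))
  have cY₂ : ∀ χ ∈ Y₂, IsCusp D χ.1 := fun χ h => (hcl χ).mpr (Or.inr (Or.inr (Or.inr h)))
  have nTriv : ¬ IsCusp D (trivIrr G).1 := (hncl _).mpr (Or.inl rfl)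
  have nSt : ¬ IsCusp D St.1 := (hncl _).mpr (Or.inr (Or.inl rfl))
  have nL : ∀ χ ∈ L, ¬ IsCusp D χ.1 := fun χ h => (hncl _).mpr (Or.inr (Or.inr h))
  -- distinctness
  have hW₁₂ : W₁ ≠ W₂ := by
    intro h
    have h1 := hW₁.2.1
    rw [h, hW₂.2.1] at h1
    exact absurd h1 (by norm_num)
  have hW₁Y₁ : W₁ ∉ Y₁ := fun h => by have := (hY₁ W₁ h).1; rw [hW₁.1] at this; exact absurd this (by norm_num)
  have hW₁Y₂ : W₁ ∉ Y₂ := fun h => by have := (hY₂ W₁ h).1; rw [hW₁.1] at this; exact absurd this (by norm_num)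
  have hW₂Y₁ : W₂ ∉ Y₁ := fun h => by have := (hY₁ W₂ h).1; rw [hW₂.1] at this; exact absurd this (by norm_num)
  have hW₂Y₂ : W₂ ∉ Y₂ := fun h => by have := (hY₂ W₂ h).1; rw [hW₂.1] at this; exact absurd this (by norm_num)
  have hY₁₂ : ∀ χ ∈ Y₁, χ ∉ Y₂ := by
    intro χ h1 h2
    have e1 := (hY₁ χ h1).2.1
    have e2 := (hY₂ χ h2).2.1
    omega
  -- the values on `B`
  obtain ⟨W₁_one, W₁_Z, W₁_QZ, W₁_K⟩ := cusp_vals D T cW₁ 0 1 0 (by rw [hW₁.1]; simp)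
    (by rw [hW₁.2.1]; simp) (by rw [hW₁.2.2]; simp)
  obtain ⟨W₂_one, W₂_Z, W₂_QZ, W₂_K⟩ := cusp_vals D T cW₂ 0 0 1 (by rw [hW₂.1]; simp)
    (by rw [hW₂.2.1]; simp) (by rw [hW₂.2.2]; simp)
  have vY₁ := fun (χ : IrrCharacter G) (h : χ ∈ Y₁) => cusp_vals D T (cY₁ χ h) 1 ((D.h : ℂ) - 1) ((D.h : ℂ) - 1)
    (by rw [(hY₁ χ h).1]; simp)
    (by have := (hY₁ χ h).2.1; rw [← this]; push_cast; ring)
    (by have := (hY₁ χ h).2.2; rw [← this]; push_cast; ring)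
  have vY₂ := fun (χ : IrrCharacter G) (h : χ ∈ Y₂) => cusp_vals D T (cY₂ χ h) 1 ((D.h : ℂ) + 1) ((D.h : ℂ) + 1)
    (by rw [(hY₂ χ h).1]; simp)
    (by rw [(hY₂ χ h).2.1]; push_cast; ring)
    (by rw [(hY₂ χ h).2.2]; push_cast; ring)
  -- the degrees
  have dW₁ : (charDegree (W₁ : G → ℂ) : ℤ) = (2 * (D.h : ℤ) ^ 2 - 1) * (D.h : ℤ) := by
    rw [cusp_deg D T cW₁, hW₁.1, hW₁.2.1, hW₁.2.2]; push_cast; ring
  have dW₂ : (charDegree (W₂ : G → ℂ) : ℤ) = (2 * (D.h : ℤ) ^ 2 - 1) * (D.h : ℤ) := by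
    rw [cusp_deg D T cW₂, hW₂.1, hW₂.2.1, hW₂.2.2]; push_cast; ring
  have dY₁ : ∀ χ ∈ Y₁, (charDegree (χ : G → ℂ) : ℤ) =
      (2 * (D.h : ℤ) ^ 2 - 1) * (2 * (D.h : ℤ) ^ 2 - 2 * (D.h : ℤ) + 1) := by
    intro χ h
    have e1 : (T.pb χ.1 : ℤ) = (D.h : ℤ) - 1 := by have := (hY₁ χ h).2.1; omega
    have e2 : (T.pc χ.1 : ℤ) = (D.h : ℤ) - 1 := by have := (hY₁ χ h).2.2; omega
    rw [cusp_deg D T (cY₁ χ h), (hY₁ χ h).1, e1, e2]; push_cast; ring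
  have dY₂ : ∀ χ ∈ Y₂, (charDegree (χ : G → ℂ) : ℤ) =
      (2 * (D.h : ℤ) ^ 2 - 1) * (2 * (D.h : ℤ) ^ 2 + 2 * (D.h : ℤ) + 1) := by
    intro χ h
    rw [cusp_deg D T (cY₂ χ h), (hY₂ χ h).1, (hY₂ χ h).2.1, (hY₂ χ h).2.2]; push_cast; ring
  -- the tori
  have cA₁ := card_A₁_int' D
  have cA₂ := card_A₂_int' D
  have hA₁5 : 5 ≤ Nat.card D.A₁ := by
    have : (5 : ℤ) ≤ (Nat.card D.A₁ : ℤ) := by rw [cA₁]; nlinarith
    exact_mod_cast this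
  have hA₂5 : 5 ≤ Nat.card D.A₂ := by
    have : (5 : ℤ) ≤ (Nat.card D.A₂ : ℤ) := by rw [cA₂]; nlinarith
    exact_mod_cast this
  obtain ⟨E₁, hE₁big, hE₁5, hE₁⟩ := torus_all D.A₁ D.cent_A₁ D.card_norm_A₁ hA₁5
  obtain ⟨E₂, hE₂big, hE₂5, hE₂⟩ := torus_all D.A₂ D.cent_A₂ D.card_norm_A₂ hA₂5
  have hE₁sub : E₁ ⊆ Y₁ := by
    apply torus_E_sub hE₁big hE₁5 hE₁ hA₁5
    · intro χ h
      rw [dY₁ χ h, cA₁]
      exact ⟨2 * (D.h : ℤ) ^ 2 - 4 * (D.h : ℤ) + 3, by ring⟩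
    · have : ((Y₁.card * 4 + 1 : ℕ) : ℤ) = (Nat.card D.A₁ : ℤ) := by
        rw [cA₁]; push_cast
        have : ((Y₁.card * 4 : ℕ) : ℤ) = ((D.q + D.r : ℕ) : ℤ) := by rw [hcY₁]
        rw [hq, hr] at this; push_cast at this; linarith
      exact_mod_cast this
  have hE₂sub : E₂ ⊆ Y₂ := by
    apply torus_E_sub hE₂big hE₂5 hE₂ hA₂5
    · intro χ h
      rw [dY₂ χ h, cA₂]
      exact ⟨2 * (D.h : ℤ) ^ 2 + 4 * (D.h : ℤ) + 3, by ring⟩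
    · have : ((Y₂.card * 4 + 1 : ℕ) : ℤ) = (Nat.card D.A₂ : ℤ) := by
        rw [cA₂]; push_cast
        have : ((Y₂.card * 4 + D.r : ℕ) : ℤ) = ((D.q : ℕ) : ℤ) := by rw [hcY₂]
        rw [hq, hr] at this; push_cast at this; linarith
      exact_mod_cast this
  have W₁_A₁ := torus_pin hE₁ hA₁5 (fun h => hW₁Y₁ (hE₁sub h)) 1 (by norm_num)
    (by rw [dW₁, cA₁]; exact ⟨(D.h : ℤ) - 1, by ring⟩)
  have W₂_A₁ := torus_pin hE₁ hA₁5 (fun h => hW₂Y₁ (hE₁sub h)) 1 (by norm_num)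
    (by rw [dW₂, cA₁]; exact ⟨(D.h : ℤ) - 1, by ring⟩)
  have W₁_A₂ := torus_pin hE₂ hA₂5 (fun h => hW₁Y₂ (hE₂sub h)) (-1) (by norm_num)
    (by rw [dW₁, cA₂]; exact ⟨(D.h : ℤ) + 1, by ring⟩)
  have W₂_A₂ := torus_pin hE₂ hA₂5 (fun h => hW₂Y₂ (hE₂sub h)) (-1) (by norm_num)
    (by rw [dW₂, cA₂]; exact ⟨(D.h : ℤ) + 1, by ring⟩)
  have Y₁_A₂ := fun (χ : IrrCharacter G) (h : χ ∈ Y₁) =>
    torus_pin hE₂ hA₂5 (fun h' => hY₁₂ χ h (hE₂sub h')) 0 (by norm_num)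
      (by rw [dY₁ χ h, cA₂]; exact ⟨2 * (D.h : ℤ) ^ 2 - 1, by ring⟩)
  have Y₂_A₁ := fun (χ : IrrCharacter G) (h : χ ∈ Y₂) =>
    torus_pin hE₁ hA₁5 (fun h' => hY₁₂ χ (hE₁sub h') h) 0 (by norm_num)
      (by rw [dY₂ χ h, cA₁]; exact ⟨2 * (D.h : ℤ) ^ 2 - 1, by ring⟩)
  -- the partition of `Irr(G)`
  have huniv : (Finset.univ : Finset (IrrCharacter G)) =
      insert (trivIrr G) (insert St (insert W₁ (insert W₂ (L ∪ (Y₁ ∪ Y₂))))) := by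
    ext χ
    simp only [Finset.mem_univ, Finset.mem_insert, Finset.mem_union, true_iff]
    by_cases hc : IsCusp D χ.1
    · rcases (hcl χ).mp hc with h | h | h | h
      · exact Or.inr (Or.inr (Or.inl h))
      · exact Or.inr (Or.inr (Or.inr (Or.inl h)))
      · exact Or.inr (Or.inr (Or.inr (Or.inr (Or.inr (Or.inl h)))))
      · exact Or.inr (Or.inr (Or.inr (Or.inr (Or.inr (Or.inr h)))))
    · rcases (hncl χ).mp hc with h | h | h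
      · exact Or.inl h
      · exact Or.inr (Or.inl h)
      · exact Or.inr (Or.inr (Or.inr (Or.inr (Or.inl h))))
  have hn1 : trivIrr G ∉ insert St (insert W₁ (insert W₂ (L ∪ (Y₁ ∪ Y₂)))) := by
    simp only [Finset.mem_insert, Finset.mem_union, not_or]
    exact ⟨hSt1.symm, fun h => nTriv (h ▸ cW₁), fun h => nTriv (h ▸ cW₂), h1L,
      fun h => nTriv (cY₁ _ h), fun h => nTriv (cY₂ _ h)⟩
  have hn2 : St ∉ insert W₁ (insert W₂ (L ∪ (Y₁ ∪ Y₂))) := by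
    simp only [Finset.mem_insert, Finset.mem_union, not_or]
    exact ⟨fun h => nSt (h ▸ cW₁), fun h => nSt (h ▸ cW₂), hStL,
      fun h => nSt (cY₁ _ h), fun h => nSt (cY₂ _ h)⟩
  have hn3 : W₁ ∉ insert W₂ (L ∪ (Y₁ ∪ Y₂)) := by
    simp only [Finset.mem_insert, Finset.mem_union, not_or]
    exact ⟨hW₁₂, fun h => nL _ h cW₁, hW₁Y₁, hW₁Y₂⟩
  have hn4 : W₂ ∉ L ∪ (Y₁ ∪ Y₂) := by
    simp only [Finset.mem_union, not_or]
    exact ⟨fun h => nL _ h cW₂, hW₂Y₁, hW₂Y₂⟩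
  have hd1 : Disjoint L (Y₁ ∪ Y₂) := by
    rw [Finset.disjoint_left]
    intro χ h1 h2
    rcases Finset.mem_union.mp h2 with h | h
    · exact nL χ h1 (cY₁ χ h)
    · exact nL χ h1 (cY₂ χ h)
  have hd2 : Disjoint Y₁ Y₂ := by
    rw [Finset.disjoint_left]
    exact hY₁₂
  refine ⟨{
    St := St, W₁ := W₁, W₂ := W₂, L := L, Y₁ := Y₁, Y₂ := Y₂
    sum_eq := ?_
    card_L := hcL
    card_Y₁ := hcY₁
    card_Y₂ := hcY₂
    St_one := St_one, St_Q := St_Q, St_K := St_K, St_A₁ := St_A₁, St_A₂ := St_A₂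
    L_one := L_one, L_Q := L_Q, L_A₁ := L_A₁, L_A₂ := L_A₂
    Y₁_one := ?_, Y₁_Z := ?_, Y₁_QZ := ?_, Y₁_K := fun χ h => (vY₁ χ h).2.2.2
    Y₁_A₂ := ?_
    Y₂_one := ?_, Y₂_Z := ?_, Y₂_QZ := ?_, Y₂_K := fun χ h => (vY₂ χ h).2.2.2
    Y₂_A₁ := ?_
    W₁_one := ?_, W₂_one := ?_, W₁_Z := ?_, W₂_Z := ?_, W₁_QZ := ?_, W₂_QZ := ?_
    W₁_K := W₁_K, W₂_K := W₂_K
    W₁_A₁ := ?_, W₂_A₁ := ?_, W₁_A₂ := ?_, W₂_A₂ := ?_ }⟩
  · intro F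
    rw [huniv, Finset.sum_insert hn1, Finset.sum_insert hn2, Finset.sum_insert hn3, Finset.sum_insert hn4,
      Finset.sum_union hd1, Finset.sum_union hd2]
    ring
  · intro χ h
    rw [(vY₁ χ h).1, hqC, hrC]; ring
  · intro χ h t ht ht1
    rw [(vY₁ χ h).2.1 t ht ht1, hqC, hrC]; ring
  · intro χ h x hx hxZ
    rw [(vY₁ χ h).2.2.1 x hx hxZ]; ring
  · intro χ h a ha ha1
    rw [Y₁_A₂ χ h a ha ha1]; simp
  · intro χ h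
    rw [(vY₂ χ h).1, hqC, hrC]; ring
  · intro χ h t ht ht1
    rw [(vY₂ χ h).2.1 t ht ht1, hqC, hrC]; ring
  · intro χ h x hx hxZ
    rw [(vY₂ χ h).2.2.1 x hx hxZ]; ring
  · intro χ h a ha ha1
    rw [Y₂_A₁ χ h a ha ha1]; simp
  · rw [W₁_one]; ring
  · rw [W₂_one]; ring
  · intro t ht ht1
    rw [W₁_Z t ht ht1]; ring
  · intro t ht ht1
    rw [W₂_Z t ht ht1]; ring
  · intro x hx hxZ
    rw [W₁_QZ x hx hxZ]
    have := T.ψ_sq ⟨x, Cfsg.Agent.Lib.Helper45.SzCh.Q_le_B D hx⟩ hx hxZ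
    linear_combination this
  · intro x hx hxZ
    rw [W₂_QZ x hx hxZ, W₁_QZ x hx hxZ]; ring
  · intro a ha ha1
    rw [W₁_A₁ a ha ha1]; simp
  · intro a ha ha1
    rw [W₂_A₁ a ha ha1]; simp
  · intro a ha ha1
    rw [W₁_A₂ a ha ha1]; simp
  · intro a ha ha1
    rw [W₂_A₂ a ha ha1]; simp

end Cfsg.Agent.Lib.Helper41.SzCov
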